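import Cfsg.Agent.Lib.Spor.CoSuz.Packed
import Cfsg.Agent.Lib.Fus.Co1Centre.Group

/-!
Automorphisms of the rank 24 lattice given by the packed images of the coordinate axes, and their products.
-/

set_option autoImplicit false
set_option maxRecDepth 100000

noncomputable section

namespace Cfsg.Agent.Spor.CoSuz

open Cfsg Cfsg.Agent.Spor.Leech

/-- An automorphism sends the axes to the rows. -/
structure HasT (g : Co0) (T : List ℕ) : Prop where
  len : T.length = 24
  img : ∀ q, T.getD (Golay.idx q) 0 = encV ((g • axis q : leechLattice) : Vec)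

theorem small_axis (g : Co0) (q : GolayPt) : Small ((g • axis q : leechLattice) : Vec) :=
  small_of_norm (by rw [co_norm, axis_norm])

namespace HasT

variable {g h : Co0} {T U : List ℕ}

theorem ent_eq (hg : HasT g T) (q p : GolayPt) : ent T q p = ((g • axis q : leechLattice) : Vec) p := by
  rw [ent, hg.img, cast_get (small_axis g q)]; ring

theorem eq (hg : HasT g T) (hh : HasT h T) : g = h :=
  ext_axis fun i => Subtype.ext (encV_inj (small_axis g i) (small_axis h i) ((hg.img i).symm.trans (hh.img i)))

/-- The image of a short vector. -/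
theorem app (hg : HasT g T) {v : leechLattice} (hv : sqNorm (v : Vec) ≤ 64) :
    colP T (encV (v : Vec)) = encV ((g • v : leechLattice) : Vec) := by
  rw [colP_eq]
  refine pack_congr 24 _ _ fun i hi => ?_
  rw [← Golay.idx_pt hi, accP_eq hg.len, decV_encV (small_of_norm hv), Golay.idx_pt hi]
  have h1 := coord_smul g v (Golay.pt i)
  have h2 : Small ((g • v : leechLattice) : Vec) := small_of_norm ((co_norm g v).trans_le hv)
  have h3 := h2 (Golay.pt i)
  simp only [hg.ent_eq, ← h1]
  omega

theorem mul (hg : HasT g T) (hh : HasT h U) : HasT (g * h) (mulP T U) where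
  len := by rw [mulP_eq, List.length_map, hh.len]
  img q := by
    rw [mulP_eq, List.getD_eq_getElem?_getD, List.getElem?_map,
      List.getElem?_eq_getElem (hh.len ▸ Golay.idx_lt q), mul_smul]
    have e : U[Golay.idx q]'(hh.len ▸ Golay.idx_lt q) = encV ((h • axis q : leechLattice) : Vec) := by
      rw [← hh.img q, List.getD_eq_getElem]
    rw [Option.map_some, Option.getD_some, e, hg.app (by rw [co_norm, axis_norm])]

end HasT

/-- The rows of the identity. -/
def oneP : List ℕ := (List.range 24).map fun i => Golay.pack 24 fun j => if i = j then 24 else 16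

theorem hasT_one : HasT 1 oneP where
  len := by simp [oneP]
  img q := by
    have h : ∀ q : GolayPt, oneP.getD (Golay.idx q) 0 = encV (Pi.single q 8) := by decide +kernel
    rw [h, one_smul, axis_val]

/-- Negation of a packed vector. -/
def negX (X : ℕ) : ℕ := Golay.pack 24 fun i => Nat.sub 32 (Golay.get X i)

theorem HasT.neg {g : Co0} {T : List ℕ} (hg : HasT g T) : HasT (negCo * g) (T.map negX) where
  len := by rw [List.length_map, hg.len]
  img q := by
    rw [List.getD_eq_getElem?_getD, List.getElem?_map, List.getElem?_eq_getElem (hg.len ▸ Golay.idx_lt q),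
      Option.map_some, Option.getD_some, mul_smul, negCo_apply]
    have e : T[Golay.idx q]'(hg.len ▸ Golay.idx_lt q) = encV ((g • axis q : leechLattice) : Vec) := by
      rw [← hg.img q, List.getD_eq_getElem]
    rw [e, negX]
    refine pack_congr 24 _ _ fun i hi => ?_
    have := cast_get (small_axis g q) (Golay.pt i)
    rw [Golay.idx_pt hi] at this
    have hb := small_axis g q (Golay.pt i)
    show 32 - _ = _
    rw [AddSubgroup.coe_neg, Pi.neg_apply]
    omega

/-- The transposed rows. -/
def tpP (T : List ℕ) : List ℕ := (List.range 24).map fun i => Golay.pack 24 fun j => Golay.get (T.getD j 0) i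

theorem ent_tp (T : List ℕ) (q p : GolayPt) : ent (tpP T) q p = ent T p q := by
  have hg : ∀ X i, Golay.get X i < 32 := fun X i => Nat.mod_lt _ (by norm_num)
  simp only [ent, tpP, List.getD_eq_getElem?_getD, List.getElem?_map, List.getElem?_range (Golay.idx_lt q),
    Option.map_some, Option.getD_some]
  rw [Golay.get_pack 24 _ _ (Golay.idx_lt p) fun j _ => hg _ _]

/-- Additive generators of the lattice, packed. -/
def latGens : List ℕ :=
  (Golay.basis.map fun b => Golay.pack 24 fun i => if b.testBit i then 18 else 16) ++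
  ((List.range 23).flatMap fun i =>
    [Golay.pack 24 fun j => if j = i then 20 else if j = 23 then 20 else 16,
     Golay.pack 24 fun j => if j = i then 20 else if j = 23 then 12 else 16]) ++
  [Golay.pack 24 fun j => if j = 23 then 13 else 17]

theorem latGens_ok : (∀ b ∈ Golay.basis, ∃ l ∈ latGens, ∀ p, decV l p = twos b p) ∧
    (∀ (i : ZMod 23), (∃ l ∈ latGens, ∀ p, decV l p = fours i 4 p) ∧ ∃ l ∈ latGens, ∀ p, decV l p = fours i (-4) p) ∧
    ∃ l ∈ latGens, ∀ p, decV l p = oddGen p := by
  decide +kernel

/-- Evaluate a list to numerals before passing it on. -/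
def forceL {α : Type} : List ℕ → (List ℕ → α) → α
  | [], k => k []
  | X :: L, k => forceN X fun Y => forceL L fun M => k (Y :: M)

theorem forceL_eq {α : Type} : ∀ (L : List ℕ) (k : List ℕ → α), forceL L k = k L
  | [], _ => rfl
  | X :: L, k => by rw [forceL, forceN_eq, forceL_eq L]

/-- The rows times their transpose are scalar. -/
def chkOrth (T : List ℕ) : Bool :=
  forceL (wideL (tpP T)) fun W => forceN (sumL W) fun C =>
    (List.range 24).all fun i => forceN (T.getD i 0) fun U => forceN (accS W U) fun S =>
      forceN (gsum 24 U) fun G =>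
        (List.range 24).all fun j => Nat.beq (accV S G C j) (if i = j then 192 else 128)

/-- One generator is carried into the lattice. -/
def chkGen (_T : List ℕ) (W : List ℕ) (C l : ℕ) : Bool :=
  forceN (accS W l) fun S => forceN (gsum 24 l) fun G =>
    ((List.range 24).all fun j => Nat.blt 0 (accV S G C j) && Nat.blt (accV S G C j) 256 &&
      Nat.beq (Nat.mod (accV S G C j) 8) 0) &&
      forceN (colW W C l) fun Y => inL (decV Y)

/-- The generators are carried into the lattice. -/
def chkLat (T : List ℕ) : Bool :=
  forceL (wideL T) fun W => forceN (sumL W) fun C => latGens.all (chkGen T W C)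

theorem chkLat_spec {T : List ℕ} (h : chkLat T = true) :
    ∀ l ∈ latGens, chkGen T (wideL T) (sumL (wideL T)) l = true := by
  simp only [chkLat, forceN_eq, forceL_eq, List.all_eq_true] at h
  exact h

/-- The rows describe an automorphism. -/
def chkT (T : List ℕ) : Bool :=
  Nat.beq T.length 24 && T.all (fun X => Nat.blt X (32 ^ 24)) && chkOrth T && chkOrth (tpP T) && chkLat T && chkLat (tpP T)

/-- The sum of the rows weighted by a vector. -/
def sumT (T : List ℕ) (x : Vec) (p : GolayPt) : ℤ := ∑ q, x q * ent T q p

/-- The map of the rows. -/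
def mapT (T : List ℕ) (x : Vec) : Vec := fun p => sumT T x p / 8

theorem sumT_add (T : List ℕ) (x y : Vec) (p : GolayPt) : sumT T (x + y) p = sumT T x p + sumT T y p := by
  simp [sumT, add_mul, Finset.sum_add_distrib]

theorem gen_spec {T : List ℕ} (hT : T.length = 24) {l : ℕ} (h : chkGen T (wideL T) (sumL (wideL T)) l = true) :
    (∀ p, (8 : ℤ) ∣ sumT T (decV l) p) ∧ mapT T (decV l) ∈ leechLattice := by
  simp only [chkGen, forceN_eq, Bool.and_eq_true, List.all_eq_true, List.mem_range] at h
  have key : ∀ j < 24, 0 < accP T l j ∧ accP T l j < 256 ∧ accP T l j % 8 = 0 := fun j hj => by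
    obtain ⟨⟨h1, h1'⟩, h2⟩ := h.1 j hj
    exact ⟨Nat.le_of_ble_eq_true h1, Nat.le_of_ble_eq_true h1', Nat.eq_of_beq_eq_true h2⟩
  have hs : ∀ p, sumT T (decV l) p = (accP T l (Golay.idx p) : ℤ) - 128 := fun p =>
    accP_cast hT rfl (key _ (Golay.idx_lt p)).1
  refine ⟨fun p => by obtain ⟨h1, -, h2⟩ := key _ (Golay.idx_lt p); rw [hs]; omega, ?_⟩
  have e : mapT T (decV l) = decV (colP T l) := funext fun p => by
    rw [mapT, hs, decV, colP_eq, Golay.get_pack 24 _ _ (Golay.idx_lt p) fun j hj => by have := (key j hj).2.1; omega]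
    have := key _ (Golay.idx_lt p)
    omega
  rw [e]; exact mem_of_inL h.2

theorem map_lat {T : List ℕ} (hT : T.length = 24) (hL : chkLat T = true) {x : Vec}
    (hx : x ∈ leechLattice) : (∀ p, (8 : ℤ) ∣ sumT T x p) ∧ mapT T x ∈ leechLattice := by
  let H : AddSubgroup Vec :=
    { carrier := {y | (∀ p, (8 : ℤ) ∣ sumT T y p) ∧ mapT T y ∈ leechLattice}
      zero_mem' := by
        have h0 : ∀ p, sumT T 0 p = 0 := fun p => by simp [sumT]
        have h1 : mapT T 0 = 0 := funext fun p => by simp [mapT, h0]
        exact ⟨fun p => by rw [h0]; exact dvd_zero _, by rw [h1]; exact zero_mem _⟩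
      add_mem' := fun {y z} hy hz => by
        refine ⟨fun p => by rw [sumT_add]; exact dvd_add (hy.1 p) (hz.1 p), ?_⟩
        have e : mapT T (y + z) = mapT T y + mapT T z := funext fun p => by
          simp only [mapT, sumT_add, Pi.add_apply]; exact Int.add_ediv_of_dvd_left (hy.1 p)
        rw [e]; exact add_mem hy.2 hz.2
      neg_mem' := fun {y} hy => by
        have h0 : ∀ p, sumT T (-y) p = -sumT T y p := fun p => by simp [sumT]
        have e : mapT T (-y) = -mapT T y := funext fun p => by
          simp only [mapT, h0, Pi.neg_apply]; exact Int.neg_ediv_of_dvd (hy.1 p)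
        exact ⟨fun p => by rw [h0]; exact (hy.1 p).neg_right, by rw [e]; exact neg_mem hy.2⟩ }
  have key : ∀ l ∈ latGens, decV l ∈ H := fun l hl => gen_spec hT (chkLat_spec hL l hl)
  obtain ⟨g1, g2, l, hl, e⟩ := latGens_ok
  exact le_of_gens (H := H) (fun b hb => by obtain ⟨l, hl, e⟩ := g1 b hb; exact funext e ▸ key l hl)
    (fun i s hs => by
      rcases hs with rfl | rfl
      · obtain ⟨l, hl, e⟩ := (g2 i).1; exact funext e ▸ key l hl
      · obtain ⟨l, hl, e⟩ := (g2 i).2; exact funext e ▸ key l hl)
    (funext e ▸ key l hl) hx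

theorem orth_ent {T : List ℕ} (h : chkOrth T = true) (q r : GolayPt) :
    ∑ p, ent T q p * ent T r p = if q = r then 64 else 0 := by
  simp only [chkOrth, forceN_eq, forceL_eq, List.all_eq_true, List.mem_range] at h
  have h1 : accP (tpP T) (T.getD (Golay.idx q) 0) (Golay.idx r) = if Golay.idx q = Golay.idx r then 192 else 128 :=
    Nat.eq_of_beq_eq_true (h _ (Golay.idx_lt q) _ (Golay.idx_lt r))
  have h2 := accP_cast (by simp [tpP]) h1 (by split_ifs <;> norm_num)
  simp only [Golay.idx_injective.eq_iff, ent_tp] at h2
  refine Eq.trans ?_ (h2.trans (by split_ifs <;> norm_num))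
  exact Finset.sum_congr rfl fun p _ => rfl

theorem map_back {T : List ℕ} (hT : T.length = 24) (ho : chkOrth T = true) (hL : chkLat T = true)
    {x : Vec} (hx : x ∈ leechLattice) : mapT (tpP T) (mapT T x) = x ∧ sqNorm (mapT T x) = sqNorm x := by
  obtain ⟨hd, -⟩ := map_lat hT hL hx
  have hS : ∀ p, 8 * mapT T x p = sumT T x p := fun p => Int.mul_ediv_cancel' (hd p)
  have hT : ∀ q, ∑ p, sumT T x p * ent T q p = 64 * x q := fun q => by
    simp only [sumT, Finset.sum_mul]
    rw [Finset.sum_comm, Finset.sum_eq_single q (fun r _ hr => ?_) (by simp)]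
    · simp only [mul_assoc, ← Finset.mul_sum, orth_ent ho, if_pos]; ring
    · simp only [mul_assoc, ← Finset.mul_sum, orth_ent ho, if_neg hr, mul_zero]
  constructor
  · funext q
    have e : 8 * sumT (tpP T) (mapT T x) q = 64 * x q := by
      rw [← hT, sumT, Finset.mul_sum]
      exact Finset.sum_congr rfl fun p _ => by rw [ent_tp, ← hS]; ring
    show sumT (tpP T) (mapT T x) q / 8 = x q
    omega
  · have e : 64 * sqNorm (mapT T x) = 64 * sqNorm x := by
      calc 64 * sqNorm (mapT T x) = ∑ p, sumT T x p * sumT T x p := by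
            rw [sqNorm, Finset.mul_sum]
            exact Finset.sum_congr rfl fun p _ => by rw [← hS]; ring
        _ = ∑ q, x q * ∑ p, sumT T x p * ent T q p := by
            simp only [Finset.mul_sum]
            rw [Finset.sum_comm]
            exact Finset.sum_congr rfl fun p _ => by
              conv_lhs => arg 2; rw [sumT]
              rw [Finset.mul_sum]
              exact Finset.sum_congr rfl fun q _ => by ring
        _ = _ := by
            simp only [hT, sqNorm, Finset.mul_sum]
            exact Finset.sum_congr rfl fun q _ => by ring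
    omega

theorem tp_tp_map (T : List ℕ) (x : Vec) : mapT (tpP (tpP T)) x = mapT T x :=
  funext fun p => by simp [mapT, sumT, ent_tp]

/-- The automorphism of the rows. -/
def ofT (T : List ℕ) : Co0 :=
  if h : chkT T = true then
    mkCo (mapT T) (mapT (tpP T))
      (fun x hx => by
        simp only [chkT, Bool.and_eq_true] at h
        exact (map_lat (Nat.eq_of_beq_eq_true h.1.1.1.1.1) h.1.2 hx).2)
      (fun x hx => by
        simp only [chkT, Bool.and_eq_true] at h
        exact (map_lat (by simp [tpP]) h.2 hx).2)
      (fun x hx => by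
        simp only [chkT, Bool.and_eq_true] at h
        exact (map_back (Nat.eq_of_beq_eq_true h.1.1.1.1.1) h.1.1.1.2 h.1.2 hx).1)
      (fun x hx => by
        simp only [chkT, Bool.and_eq_true] at h
        have := (map_back (T := tpP T) (by simp [tpP]) h.1.1.2 h.2 hx).1
        rwa [tp_tp_map] at this)
      (fun x hx y _ => by
        simp only [chkT, Bool.and_eq_true] at h
        funext p
        simp only [mapT, sumT_add, Pi.add_apply]
        exact Int.add_ediv_of_dvd_left ((map_lat (Nat.eq_of_beq_eq_true h.1.1.1.1.1) h.1.2 hx).1 p))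
      (fun x hx => by
        simp only [chkT, Bool.and_eq_true] at h
        exact (map_back (Nat.eq_of_beq_eq_true h.1.1.1.1.1) h.1.1.1.2 h.1.2 hx).2)
  else 1

theorem row_lt {T : List ℕ} (h : chkT T = true) (q : GolayPt) : T.getD (Golay.idx q) 0 < 32 ^ 24 := by
  simp only [chkT, Bool.and_eq_true, List.all_eq_true] at h
  have hl : Golay.idx q < T.length := Nat.eq_of_beq_eq_true h.1.1.1.1.1 ▸ Golay.idx_lt q
  rw [List.getD_eq_getElem _ _ hl]
  exact Nat.le_of_ble_eq_true (h.1.1.1.1.2 _ (List.getElem_mem hl))

theorem hasT_ofT {T : List ℕ} (h : chkT T = true) : HasT (ofT T) T := by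
  have h' := h
  simp only [chkT, Bool.and_eq_true] at h'
  have hlen : T.length = 24 := Nat.eq_of_beq_eq_true h'.1.1.1.1.1
  refine ⟨hlen, fun q => ?_⟩
  have e : ∀ p, ((ofT T • axis q : leechLattice) : Vec) p = ent T q p := fun p => by
    rw [ofT, dif_pos h]
    show mapT T ((axis q : leechLattice) : Vec) p = _
    have e : sumT T ((axis q : leechLattice) : Vec) p = 8 * ent T q p := by
      rw [sumT, axis_val, Finset.sum_eq_single q (fun r _ hr => by rw [Pi.single_eq_of_ne hr, zero_mul]) (by simp),
        Pi.single_eq_same]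
    rw [mapT, e, Int.mul_ediv_cancel_left _ (by norm_num)]
  refine (Eq.symm ?_)
  rw [encV, show ((ofT T • axis q : leechLattice) : Vec) = fun p => ent T q p from funext e]
  have hp : ∀ X : ℕ, Golay.pack 24 (Golay.get X) = X % 32 ^ 24 := by
    intro X
    suffices ∀ (n X : ℕ), Golay.pack n (Golay.get X) = X % 32 ^ n from this 24 X
    intro n
    induction n with
    | zero => intro X; simp [Golay.pack, Nat.mod_one]
    | succ n ih =>
      intro X
      have hf : (fun i => Golay.get X (i + 1)) = Golay.get (X >>> 5) := funext fun i => (get_shift' X i).symm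
      rw [Golay.pack, hf, ih, pow_succ', Nat.mod_mul, Nat.shiftRight_eq_div_pow]
      simp [Golay.get]
  calc _ = Golay.pack 24 (Golay.get (T.getD (Golay.idx q) 0)) := pack_congr 24 _ _ fun i hi => by
          simp only [ent, Golay.idx_pt hi]; omega
    _ = _ := (hp _).trans (Nat.mod_eq_of_lt (row_lt h q))

attribute [irreducible] ofT

end Cfsg.Agent.Spor.CoSuz

end
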