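import Cfsg.Agent.Lib.Spor.CoSuz.Mat
import Cfsg.Agent.Lib.Spor.CoSuz.Data
import Cfsg.Agent.Lib.Fus.Co1Centre.Centraliser

/-!
The chosen automorphisms of the rank 24 lattice and their basic properties.
-/

set_option autoImplicit false
set_option maxRecDepth 100000

noncomputable section

namespace Cfsg.Agent.Spor.CoSuz

open Cfsg Matrix Cfsg.Agent.Spor.Leech Cfsg.Agent.Fus

theorem chk_a : chkT aT = true := by decide +kernel

theorem chk_pair : pairT.all chkT = true := by decide +kernel

theorem chk_base0 : chkT (baseX.getD 0 []) = true := by decide +kernel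

theorem chk_base1 : chkT (baseX.getD 1 []) = true := by decide +kernel

theorem chk_base2 : chkT (baseX.getD 2 []) = true := by decide +kernel

theorem chk_base3 : chkT (baseX.getD 3 []) = true := by decide +kernel

theorem chk_base4 : chkT (baseX.getD 4 []) = true := by decide +kernel

theorem chk_base5 : chkT (baseX.getD 5 []) = true := by decide +kernel

theorem chk_base : ∀ i < 6, chkT (baseX.getD i []) = true := fun i hi => by
  interval_cases i
  exacts [chk_base0, chk_base1, chk_base2, chk_base3, chk_base4, chk_base5]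

theorem chk_out : outX.all chkT = true := by decide +kernel

theorem chk_mov : chkT movT = true := by decide +kernel

/-- The element of order three. -/
def aC : Co0 := ofT aT

theorem hasT_a : HasT aC aT := hasT_ofT chk_a

theorem a_cube : aC ^ 3 = 1 := by
  have h : (mulP aT (mulP aT aT) == oneP) = true := by decide +kernel
  rw [pow_succ', pow_two]
  have e := hasT_a.mul (hasT_a.mul hasT_a)
  rw [beq_iff_eq.1 h] at e
  exact e.eq hasT_one

theorem a_ne : aC ≠ 1 := fun e => by
  have h : (aT == oneP) = false := by decide +kernel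
  have h1 : HasT aC oneP := e ▸ hasT_one
  have hl : aT = oneP := List.ext_getElem (hasT_a.len.trans h1.len.symm) fun i hi _ => by
    have hi' : i < 24 := hasT_a.len ▸ hi
    have := (hasT_a.img (Golay.pt i)).trans (h1.img (Golay.pt i)).symm
    rw [Golay.idx_pt hi'] at this
    rwa [List.getD_eq_getElem, List.getD_eq_getElem] at this
  rw [hl] at h
  simp at h

theorem orderOf_a : orderOf aC = 3 := by
  haveI : Fact (Nat.Prime 3) := ⟨Nat.prime_three⟩
  exact orderOf_eq_prime a_cube a_ne

/-- The group of order three. -/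
def A : Subgroup Co0 := Subgroup.zpowers aC

theorem card_A : Nat.card A = 3 := by rw [A, Nat.card_zpowers, orderOf_a]

/-- The centraliser. -/
def CA : Subgroup Co0 := Subgroup.centralizer (A : Set Co0)

theorem mem_CA {g : Co0} : g ∈ CA ↔ g * aC = aC * g := by
  rw [CA, A, Subgroup.zpowers_eq_closure, Subgroup.centralizer_closure, Subgroup.mem_centralizer_singleton_iff]

/-- The rows commute with those of the element of order three. -/
def chkComm (T : List ℕ) : Bool := mulP T aT == mulP aT T

theorem mem_CA_of {g : Co0} {T : List ℕ} (hg : HasT g T) (h : chkComm T = true) : g ∈ CA :=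
  mem_CA.2 (by
    have e := hg.mul hasT_a
    rw [beq_iff_eq.1 h] at e
    exact e.eq (hasT_a.mul hg))

/-- The rows of the sign change on the octad. -/
def eP : List ℕ :=
  (List.range 24).map fun i => Golay.pack 24 fun j => if i = j then (if (5279 : ℕ).testBit i then 8 else 24) else 16

theorem hasT_eO : HasT Co1Centre.eO eP where
  len := by simp [eP]
  img q := by
    have h : ∀ q : GolayPt, eP.getD (Golay.idx q) 0 =
        encV (fun i => if i ∈ Co1Centre.Om then -(Pi.single q 8 : Vec) i else (Pi.single q 8 : Vec) i) := by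
      decide +kernel
    rw [h]
    exact congrArg encV (funext fun i => by rw [Co1Centre.eO_apply, axis_val])

theorem eO_mem_CA : Co1Centre.eO ∈ CA := mem_CA_of hasT_eO (by decide +kernel)

theorem negCo_comm (g : Co0) : g * negCo = negCo * g :=
  Subgroup.mem_center_iff.1 (mem_center_iff.2 (Or.inr rfl)) g

theorem negCo_mem_CA : negCo ∈ CA := mem_CA.2 (negCo_comm aC).symm

theorem negCo_sq : negCo * negCo = (1 : Co0) :=
  ext_axis fun i => by rw [mul_smul, negCo_apply, negCo_apply, neg_neg, one_smul]

/-- The packed roots. -/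
def rootE (k : ℕ) : ℕ := encV (ofList (Co1Centre.rootsL.getD k []))

theorem root_norm : ∀ k < 8, sqNorm (ofList (Co1Centre.rootsL.getD k [])) ≤ 64 := by decide +kernel

/-- The rows keep the roots on the octad. -/
def chkCs (T : List ℕ) : Bool :=
  (List.range 8).all fun k => forceN (colP T (rootE k)) fun Y =>
    (List.range 24).all fun i => (5279 : ℕ).testBit i || Nat.beq (Golay.get Y i) 16

theorem img_root {g : Co0} {T : List ℕ} (hg : HasT g T) (k : Fin 8) :
    encV ((g • Co1Centre.R k : leechLattice) : Vec) = colP T (rootE k) := by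
  rw [rootE, ← Co1Centre.R_val k, hg.app]
  rw [Co1Centre.R_val k]; exact root_norm k k.2

theorem small_root (g : Co0) (k : Fin 8) : Small ((g • Co1Centre.R k : leechLattice) : Vec) :=
  small_of_norm (by rw [co_norm, Co1Centre.R_val k]; exact root_norm k k.2)

theorem mem_Cs_of {g : Co0} {T : List ℕ} (hg : HasT g T) (h : chkCs T = true) : g ∈ Co1Centre.Cs := by
  refine Co1Centre.mem_Cs fun v hv => ?_
  rw [Co1Centre.expand hv, co_sum]
  refine AddSubgroup.sum_mem _ fun k _ => ?_
  rw [co_zsmul]
  refine AddSubgroup.zsmul_mem _ (Co1Centre.mem_Lm.2 fun i hi => ?_) _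
  have h1 := List.all_eq_true.1 h k (List.mem_range.2 k.2)
  rw [forceN_eq, List.all_eq_true] at h1
  have h2 := h1 (Golay.idx i) (List.mem_range.2 (Golay.idx_lt i))
  rw [Bool.or_eq_true] at h2
  rcases h2 with h2 | h2
  · exact absurd (Golay.mem_pts.2 h2) hi
  · have h3 := cast_get (small_root g k) i
    rw [img_root hg k, Nat.eq_of_beq_eq_true h2] at h3
    omega

/-- The rows fix the roots modulo two. -/
def chkKer (T : List ℕ) : Bool :=
  (List.range 8).all fun k =>
    decide (Co1Centre.redL (decV (colP T (rootE k))) = Co1Centre.redL (ofList (Co1Centre.rootsL.getD k [])))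

theorem mem_ker_of {g : Co1Centre.Cs} {T : List ℕ} (hg : HasT (g : Co0) T) (h : chkKer T = true) :
    g ∈ Co1Centre.Phi.ker := by
  refine Co1Centre.mem_ker.2 fun v hv => ?_
  have key : ∀ k, Co1Centre.red (((g : Co0) • Co1Centre.R k : leechLattice) : Vec) =
      Co1Centre.red (Co1Centre.R k : Vec) := fun k => by
    have h1 := of_decide_eq_true (List.all_eq_true.1 h k.val (List.mem_range.2 k.2))
    rw [← img_root hg k, decV_encV (small_root _ k), ← Co1Centre.R_val k] at h1
    rw [Co1Centre.red_eq_redL, Co1Centre.red_eq_redL, h1]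
  rw [Co1Centre.red_smul g hv]
  have e : ∀ w ∈ AddSubgroup.closure (Set.range Co1Centre.R),
      w ∈ Co1Centre.Lm ∧ Co1Centre.mat g *ᵥ Co1Centre.red (w : Vec) = Co1Centre.red (w : Vec) := by
    intro w hw
    induction hw using AddSubgroup.closure_induction with
    | mem x hx =>
      obtain ⟨k, rfl⟩ := hx
      exact ⟨Co1Centre.R_mem k, by rw [← Co1Centre.red_smul g (Co1Centre.R_mem k), key]⟩
    | zero => exact ⟨zero_mem _, by rw [Co1Centre.red_zero, Matrix.mulVec_zero]⟩
    | add x y _ _ hx hy =>
      exact ⟨add_mem hx.1 hy.1, by rw [Co1Centre.red_add hx.1 hy.1, Matrix.mulVec_add, hx.2, hy.2]⟩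
    | neg x _ hx => exact ⟨neg_mem hx.1, by rw [Co1Centre.red_neg hx.1, hx.2]⟩
  refine (e v ?_).2
  rw [Co1Centre.expand hv]
  exact AddSubgroup.sum_mem _ fun k _ => AddSubgroup.zsmul_mem _ (AddSubgroup.subset_closure (Set.mem_range_self k)) _

end Cfsg.Agent.Spor.CoSuz

end
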