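import Cfsg.Agent.Lib.Spor.CoSuz.Bound
import Cfsg.Agent.Lib.Spor.CoSuz.Elems
import Cfsg.Agent.Lib.Spor.Cos.Suz.IsSimple
import Cfsg.Agent.Lib.Spor.Cos.Suz.Order

/-!
The centraliser modulo the group of order six is the presented simple group.
-/

set_option autoImplicit false
set_option maxRecDepth 100000

noncomputable section

namespace Cfsg.Agent.Spor.CoSuz

open Cfsg Cfsg.Agent.Spor.Leech Cfsg.Agent.Fus

/-- The six central members, as rows. -/
def sixP : List (List ℕ) := [oneP, aT, mulP aT aT, oneP.map negX, aT.map negX, (mulP aT aT).map negX]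

/-- The letters, as rows. -/
def genP (s : ℕ) : List ℕ := genT.getD s []

/-- A word, as rows. -/
def evP : List ℕ → List ℕ
  | [] => oneP
  | s :: w => mulP (genP s) (evP w)

theorem gen_chk : ∀ s < 7, (chkT (genP s) && chkComm (genP s) && sixP.contains (mulP (genP s) (genP s))) = true := by
  decide +kernel

theorem word0 : sixP.contains (evP (Cos.Suz.words.getD 0 [])) = true := by decide +kernel

theorem word1 : sixP.contains (evP (Cos.Suz.words.getD 1 [])) = true := by decide +kernel

theorem word2 : sixP.contains (evP (Cos.Suz.words.getD 2 [])) = true := by decide +kernel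

theorem word3 : sixP.contains (evP (Cos.Suz.words.getD 3 [])) = true := by decide +kernel

theorem word4 : sixP.contains (evP (Cos.Suz.words.getD 4 [])) = true := by decide +kernel

theorem word5 : sixP.contains (evP (Cos.Suz.words.getD 5 [])) = true := by decide +kernel

theorem word6 : sixP.contains (evP (Cos.Suz.words.getD 6 [])) = true := by decide +kernel

theorem word7 : sixP.contains (evP (Cos.Suz.words.getD 7 [])) = true := by decide +kernel

theorem word8 : sixP.contains (evP (Cos.Suz.words.getD 8 [])) = true := by decide +kernel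

theorem word9 : sixP.contains (evP (Cos.Suz.words.getD 9 [])) = true := by decide +kernel

theorem word10 : sixP.contains (evP (Cos.Suz.words.getD 10 [])) = true := by decide +kernel

theorem word11 : sixP.contains (evP (Cos.Suz.words.getD 11 [])) = true := by decide +kernel

theorem word12 : sixP.contains (evP (Cos.Suz.words.getD 12 [])) = true := by decide +kernel

theorem word13 : sixP.contains (evP (Cos.Suz.words.getD 13 [])) = true := by decide +kernel

theorem word14 : sixP.contains (evP (Cos.Suz.words.getD 14 [])) = true := by decide +kernel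

theorem word15 : sixP.contains (evP (Cos.Suz.words.getD 15 [])) = true := by decide +kernel

theorem word16 : sixP.contains (evP (Cos.Suz.words.getD 16 [])) = true := by decide +kernel

theorem word17 : sixP.contains (evP (Cos.Suz.words.getD 17 [])) = true := by decide +kernel

theorem word18 : sixP.contains (evP (Cos.Suz.words.getD 18 [])) = true := by decide +kernel

theorem word19 : sixP.contains (evP (Cos.Suz.words.getD 19 [])) = true := by decide +kernel

theorem word20 : sixP.contains (evP (Cos.Suz.words.getD 20 [])) = true := by decide +kernel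

theorem word21 : sixP.contains (evP (Cos.Suz.words.getD 21 [])) = true := by decide +kernel

theorem word22 : sixP.contains (evP (Cos.Suz.words.getD 22 [])) = true := by decide +kernel

theorem word23 : sixP.contains (evP (Cos.Suz.words.getD 23 [])) = true := by decide +kernel

theorem word24 : sixP.contains (evP (Cos.Suz.words.getD 24 [])) = true := by decide +kernel

theorem word25 : sixP.contains (evP (Cos.Suz.words.getD 25 [])) = true := by decide +kernel

theorem word_all : ∀ i < 26, sixP.contains (evP (Cos.Suz.words.getD i [])) = true := fun i hi => by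
  interval_cases i
  exacts [word0, word1, word2, word3, word4, word5, word6, word7, word8, word9, word10, word11, word12, word13, word14, word15, word16, word17, word18, word19, word20, word21, word22, word23, word24, word25]

theorem rows_eq {g : Co0} {T U : List ℕ} (hT : HasT g T) (hU : HasT g U) : T = U :=
  List.ext_getElem (hT.len.trans hU.len.symm) fun i hi _ => by
    have hi' : i < 24 := hT.len ▸ hi
    have := (hT.img (Golay.pt i)).trans (hU.img (Golay.pt i)).symm
    rw [Golay.idx_pt hi'] at this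
    rwa [List.getD_eq_getElem, List.getD_eq_getElem] at this

/-- The subgroup divided out. -/
def N0 : Subgroup CA := (A ⊔ Subgroup.center Co0).subgroupOf CA

theorem sup_comm {x g : Co0} (hx : x ∈ A ⊔ Subgroup.center Co0) (hg : g ∈ CA) : g * x = x * g := by
  have h : A ⊔ Subgroup.center Co0 ≤ Subgroup.centralizer (CA : Set Co0) :=
    sup_le (fun a ha => Subgroup.mem_centralizer_iff.2 fun c hc => (Subgroup.mem_centralizer_iff.1 hc a ha).symm)
      (Subgroup.center_le_centralizer _)
  exact Subgroup.mem_centralizer_iff.1 (h hx) g hg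

instance N0_normal : N0.Normal := ⟨fun x hx g => by
  have e : g * x = x * g := Subtype.ext (sup_comm (Subgroup.mem_subgroupOf.1 hx) g.2)
  rwa [e, mul_inv_cancel_right]⟩

theorem mem_sup_iff {x : Co0} :
    x ∈ A ⊔ Subgroup.center Co0 ↔ ∃ k < 3, x = aC ^ k ∨ x = negCo * aC ^ k := by
  constructor
  · intro hx
    obtain ⟨y, hy, z, hz, rfl⟩ := Subgroup.mem_sup_of_normal_right.1 hx
    obtain ⟨n, rfl⟩ := (isOfFinOrder_of_finite aC).mem_powers_iff_mem_zpowers.2 hy
    refine ⟨n % 3, Nat.mod_lt _ (by norm_num), ?_⟩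
    have e : aC ^ (n % 3) = aC ^ n := by rw [← orderOf_a, pow_mod_orderOf]
    rw [e]
    rcases mem_center_iff.1 hz with rfl | rfl
    · exact Or.inl (mul_one _)
    · exact Or.inr (negCo_comm _)
  · rintro ⟨k, -, rfl | rfl⟩
    · exact Subgroup.mem_sup_left (pow_mem (Subgroup.mem_zpowers _) _)
    · exact mul_mem (Subgroup.mem_sup_right (mem_center_iff.2 (Or.inr rfl)))
        (Subgroup.mem_sup_left (pow_mem (Subgroup.mem_zpowers _) _))

theorem mem_N0 {x : CA} : x ∈ N0 ↔ ∃ k < 3, (x : Co0) = aC ^ k ∨ (x : Co0) = negCo * aC ^ k :=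
  Subgroup.mem_subgroupOf.trans mem_sup_iff

theorem mem_N0_of {x : CA} {T : List ℕ} (hT : HasT (x : Co0) T) (h : sixP.contains T = true) : x ∈ N0 := by
  have h1 : HasT (aC ^ 1) aT := by rw [pow_one]; exact hasT_a
  have h2 : HasT (aC ^ 2) (mulP aT aT) := by rw [pow_two]; exact hasT_a.mul hasT_a
  have h0 : HasT (aC ^ 0) oneP := by rw [pow_zero]; exact hasT_one
  rw [List.contains_iff_mem] at h
  simp only [sixP, List.mem_cons, List.not_mem_nil, or_false] at h
  refine mem_N0.2 ?_
  rcases h with rfl | rfl | rfl | rfl | rfl | rfl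
  exacts [⟨0, by norm_num, Or.inl (hT.eq h0)⟩, ⟨1, by norm_num, Or.inl (hT.eq h1)⟩,
    ⟨2, by norm_num, Or.inl (hT.eq h2)⟩, ⟨0, by norm_num, Or.inr (hT.eq h0.neg)⟩,
    ⟨1, by norm_num, Or.inr (hT.eq h1.neg)⟩, ⟨2, by norm_num, Or.inr (hT.eq h2.neg)⟩]

/-- The letters in the centraliser. -/
def gC (s : ℕ) : CA :=
  if h : s < 7 then ⟨ofT (genP s), mem_CA_of (hasT_ofT (by have := gen_chk s h; simp only [Bool.and_eq_true] at this; exact this.1.1))
    (by have := gen_chk s h; simp only [Bool.and_eq_true] at this; exact this.1.2)⟩ else 1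

theorem hasT_gC {s : ℕ} (h : s < 7) : HasT (gC s : Co0) (genP s) := by
  rw [gC, dif_pos h]
  exact hasT_ofT (by have := gen_chk s h; simp only [Bool.and_eq_true] at this; exact this.1.1)

theorem hasT_ev : ∀ w : List ℕ, (∀ s ∈ w, s < 7) → HasT ((Cos.ev gC w : CA) : Co0) (evP w)
  | [], _ => hasT_one
  | s :: w, h => by
    rw [Cos.ev, evP, Subgroup.coe_mul]
    exact (hasT_gC (h s List.mem_cons_self)).mul (hasT_ev w fun t ht => h t (List.mem_cons_of_mem _ ht))

/-- The quotient. -/
abbrev Sq : Type := CA ⧸ N0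

/-- The images of the letters. -/
def sig (s : ℕ) : Sq := QuotientGroup.mk' N0 (gC s)

theorem ev_sig : ∀ w : List ℕ, Cos.ev sig w = QuotientGroup.mk' N0 (Cos.ev gC w)
  | [] => (map_one _).symm
  | s :: w => by rw [Cos.ev, Cos.ev, map_mul, ev_sig w]; rfl

theorem exists_pi : ∃ π : Spor.Suz →* Sq, ∀ s, π (Cos.Suz.g s) = sig s := by
  refine Cos.Suz.pres.exists_hom sig (fun s => ?_) (fun w hw => ?_) (fun s hs => ?_)
  · rcases Nat.lt_or_ge s 7 with h | h
    · rw [sig, ← map_mul, QuotientGroup.mk'_apply, QuotientGroup.eq_one_iff]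
      refine mem_N0_of ((hasT_gC h).mul (hasT_gC h)) ?_
      have := gen_chk s h
      simp only [Bool.and_eq_true] at this
      exact this.2
    · rw [sig, gC, dif_neg (by omega)]; simp
  · obtain ⟨i, hi, rfl⟩ := List.mem_iff_getElem.1 hw
    rw [ev_sig, QuotientGroup.mk'_apply, QuotientGroup.eq_one_iff]
    have hlt : ∀ w ∈ Cos.Suz.words, ∀ s ∈ w, s < 7 := by decide +kernel
    refine mem_N0_of (hasT_ev _ (hlt _ hw)) ?_
    have := word_all i hi
    rwa [List.getD_eq_getElem _ _ hi] at this
  · rw [sig, gC, dif_neg (by simp [Cos.Suz.alph] at hs; omega)]; simp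

theorem six_of_mem_N0 {x : CA} {T : List ℕ} (hT : HasT (x : Co0) T) (h : x ∈ N0) : sixP.contains T = true := by
  have h1 : HasT (aC ^ 1) aT := by rw [pow_one]; exact hasT_a
  have h2 : HasT (aC ^ 2) (mulP aT aT) := by rw [pow_two]; exact hasT_a.mul hasT_a
  have h0 : HasT (aC ^ 0) oneP := by rw [pow_zero]; exact hasT_one
  obtain ⟨k, hk, e⟩ := mem_N0.1 h
  rw [List.contains_iff_mem]
  simp only [sixP, List.mem_cons, List.not_mem_nil, or_false]
  interval_cases k <;> rcases e with e | e <;> rw [e] at hT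
  exacts [Or.inl (rows_eq hT h0), Or.inr (Or.inr (Or.inr (Or.inl (rows_eq hT h0.neg)))),
    Or.inr (Or.inl (rows_eq hT h1)), Or.inr (Or.inr (Or.inr (Or.inr (Or.inl (rows_eq hT h1.neg))))),
    Or.inr (Or.inr (Or.inl (rows_eq hT h2))), Or.inr (Or.inr (Or.inr (Or.inr (Or.inr (rows_eq hT h2.neg)))))]

theorem le_CA : A ⊔ Subgroup.center Co0 ≤ CA := sup_le
  (by rw [A, Subgroup.zpowers_le]; exact mem_CA.2 rfl) (Subgroup.center_le_centralizer _)

theorem card_sup : Nat.card ↥(A ⊔ Subgroup.center Co0) = 6 := by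
  refine le_antisymm ?_ ?_
  · have h := Nat.card_le_card_of_surjective
      (fun p : Fin 3 × Bool => (⟨(if p.2 then negCo else 1) * aC ^ p.1.val,
        mul_mem (by split_ifs; exacts [Subgroup.mem_sup_right (mem_center_iff.2 (Or.inr rfl)), one_mem _])
          (Subgroup.mem_sup_left (pow_mem (Subgroup.mem_zpowers _) _))⟩ : ↥(A ⊔ Subgroup.center Co0))) ?_
    · simpa using h
    · rintro ⟨x, hx⟩
      obtain ⟨k, hk, rfl | rfl⟩ := mem_sup_iff.1 hx
      · exact ⟨(⟨k, hk⟩, false), Subtype.ext (by simp)⟩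
      · exact ⟨(⟨k, hk⟩, true), Subtype.ext (by simp)⟩
  · have h3 : 3 ∣ Nat.card ↥(A ⊔ Subgroup.center Co0) := card_A ▸ Subgroup.card_dvd_of_le le_sup_left
    have h2 : 2 ∣ Nat.card ↥(A ⊔ Subgroup.center Co0) := card_center ▸ Subgroup.card_dvd_of_le le_sup_right
    exact Nat.le_of_dvd Nat.card_pos (Nat.Coprime.mul_dvd_of_dvd_of_dvd (by norm_num : Nat.Coprime 2 3) h2 h3)

theorem card_N0 : Nat.card N0 = 6 :=
  (Nat.card_congr (Subgroup.subgroupOfEquivOfLe le_CA).toEquiv).trans card_sup

theorem a_pnt_chk : ((List.range 12).all fun j => Nat.beq (colP aT (oe j 0)) (oe j 1)) = true := by decide +kernel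

theorem a_pnt (j : Fin 12) : aC • pnt j 0 = pnt j 1 := by
  refine Subtype.ext (encV_inj (small_of_norm (by rw [co_norm, pnt_norm]; norm_num)) (pnt_small j 1) ?_)
  rw [← hasT_a.app (by rw [pnt_norm]; norm_num), encV_pnt, encV_pnt]
  exact Nat.eq_of_beq_eq_true (List.all_eq_true.1 a_pnt_chk j.val (List.mem_range.2 j.2))

theorem card_Sq_le : Nat.card Sq ≤ 448345497600 := by
  have h := card_le (C := CA) (a := aC) (fun g hg => (mem_CA.1 hg).symm) a_pnt
  rw [Subgroup.card_eq_card_quotient_mul_card_subgroup N0, card_N0] at h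
  have e : 196560 * (891 * (256 * (60 * 1))) = 448345497600 * 6 := by norm_num
  rw [e] at h
  exact Nat.le_of_mul_le_mul_right h (by norm_num)

theorem exists_equiv : Nonempty (Spor.Suz ≃* Sq) := by
  obtain ⟨π, hπ⟩ := exists_pi
  haveI := Cos.Suz.isSimple
  have hinj : Function.Injective π := by
    rw [← MonoidHom.ker_eq_bot_iff]
    refine (IsSimpleGroup.eq_bot_or_eq_top_of_normal π.ker (MonoidHom.normal_ker π)).resolve_right fun e => ?_
    have h : π (Cos.Suz.g 0) = 1 := by
      rw [← MonoidHom.mem_ker, e]; trivial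
    rw [hπ, sig, QuotientGroup.mk'_apply, QuotientGroup.eq_one_iff] at h
    have h' := six_of_mem_N0 (hasT_gC (by norm_num)) h
    have hf : sixP.contains (genP 0) = false := by decide +kernel
    rw [hf] at h'
    exact Bool.noConfusion h'
  exact ⟨MulEquiv.ofBijective π (hinj.bijective_of_nat_card_le (by rw [Cos.Suz.card_eq]; exact card_Sq_le))⟩

theorem simple_Sq : IsSimpleGroup Sq := by
  obtain ⟨e⟩ := exists_equiv
  exact e.isSimpleGroup_congr.1 Cos.Suz.isSimple

theorem not_comm_Sq : ¬ IsMulCommutative Sq := fun h => by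
  have hc : sig 0 * sig 1 = sig 1 * sig 0 := h.is_comm.comm _ _
  obtain ⟨π, hπ⟩ := exists_pi
  have hs : ∀ s, sig s * sig s = 1 := fun s => by rw [← hπ, ← map_mul, Cos.Suz.g_sq, map_one]
  have e : Cos.ev sig [0, 1, 0, 1] = 1 := by
    have key : ∀ x y : Sq, x * x = 1 → y * y = 1 → x * y = y * x → x * (y * (x * (y * 1))) = 1 :=
      fun x y hx hy hxy => by
        rw [mul_one, ← mul_assoc y x y, ← hxy, mul_assoc x y y, hy, mul_one, hx]
    exact key _ _ (hs 0) (hs 1) hc
  rw [ev_sig, QuotientGroup.mk'_apply, QuotientGroup.eq_one_iff] at e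
  have h' := six_of_mem_N0 (hasT_ev _ (by simp)) e
  have hf : sixP.contains (evP [0, 1, 0, 1]) = false := by decide +kernel
  rw [hf] at h'
  exact Bool.noConfusion h'

end Cfsg.Agent.Spor.CoSuz

end
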