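import Cfsg.Agent.Lib.Spor.CoSuz.Omega
import Cfsg.Agent.Lib.Spor.CoSuz.Hom

/-!
The centraliser of an involution of the quotient has an extraspecial subgroup of order `2^7`.
-/

set_option autoImplicit false
set_option maxRecDepth 100000

noncomputable section

namespace Cfsg.Agent.Spor.CoSuz

open Cfsg Cfsg.Agent.Spor.Leech Cfsg.Agent.Fus
open Cfsg.Agent.Classical.OrthAut (ogVal)

/-- The involution of the quotient. -/
def zS : Sq := QuotientGroup.mk' N0 ⟨Co1Centre.eO, eO_mem_CA⟩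

/-- Its centraliser. -/
abbrev Cz : Subgroup Sq := Subgroup.centralizer ({zS} : Set Sq)

theorem sup_HH : A ⊔ Subgroup.center Co0 ≤ HH := by
  refine sup_le (by rw [A, Subgroup.zpowers_le]; exact a_mem_HH) fun x hx => ?_
  rcases mem_center_iff.1 hx with rfl | rfl
  exacts [one_mem _, negCo_mem_HH]

theorem negCo_center : negCo ∈ A ⊔ Subgroup.center Co0 :=
  Subgroup.mem_sup_right (mem_center_iff.2 (Or.inr rfl))

theorem not_six {x : CA} {T : List ℕ} (hT : HasT (x : Co0) T) (h : sixP.contains T = false) : x ∉ N0 := fun hx => by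
  have := six_of_mem_N0 hT hx
  rw [h] at this
  exact Bool.noConfusion this

theorem zS_ne : zS ≠ 1 := by
  rw [zS, QuotientGroup.mk'_apply, Ne, QuotientGroup.eq_one_iff]
  exact not_six hasT_eO (by decide +kernel)

theorem zS_order : orderOf zS = 2 := by
  haveI : Fact (Nat.Prime 2) := ⟨Nat.prime_two⟩
  refine orderOf_eq_prime ?_ zS_ne
  rw [pow_two, zS, ← map_mul, show (⟨Co1Centre.eO, eO_mem_CA⟩ : CA) * ⟨Co1Centre.eO, eO_mem_CA⟩ = 1 from
    Subtype.ext eO_sq, map_one]

theorem mem_Cs_of_comm {g : Co0} (h : g * Co1Centre.eO = Co1Centre.eO * g) : g ∈ Co1Centre.Cs := by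
  refine Co1Centre.mem_Cs fun v hv => Co1Centre.mem_Lm.2 fun i hi => ?_
  have e : Co1Centre.eO • g • v = -(g • v) := by
    rw [← mul_smul, ← h, mul_smul, Co1Centre.eO_Lm hv, co_neg]
  have e3 := congrArg (fun w : leechLattice => (w : Vec) i) e
  simp only [Co1Centre.eO_apply, if_neg hi, AddSubgroup.coe_neg, Pi.neg_apply] at e3
  omega

theorem three_dvd_of_pow {k : ℕ} (h : aC ^ k = 1) : 3 ∣ k := orderOf_a ▸ orderOf_dvd_of_pow_eq_one h

theorem lift_Cs {x : CA} (hx : QuotientGroup.mk' N0 x ∈ Cz) : (x : Co0) ∈ Co1Centre.Cs := by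
  rw [Subgroup.mem_centralizer_singleton_iff, zS, ← map_mul, ← map_mul, QuotientGroup.mk'_apply,
    QuotientGroup.mk'_apply, eq_comm, QuotientGroup.eq, mem_N0] at hx
  have he := mem_CA.1 eO_mem_CA
  have hpow : ∀ k : ℕ, Co1Centre.eO * aC ^ k = aC ^ k * Co1Centre.eO := fun k =>
    (Commute.pow_right (show Commute Co1Centre.eO aC from he) k)
  have hxa : ∀ k : ℕ, (x : Co0) * aC ^ k = aC ^ k * (x : Co0) := fun k =>
    (Commute.pow_right (show Commute (x : Co0) aC from mem_CA.1 x.2) k)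
  -- the commutator with the sign change
  obtain ⟨k, hk3, hn⟩ := hx
  have key : ∀ s : Co0, s * s = 1 → (∀ g : Co0, g * s = s * g) →
      (x : Co0) * Co1Centre.eO = Co1Centre.eO * x * (s * aC ^ k) → k = 0 ∧
      (x : Co0) * Co1Centre.eO = s * (Co1Centre.eO * x) := by
    intro s hs hsc e
    have hc : ∀ g : Co0, g * aC ^ k = aC ^ k * g → g * (s * aC ^ k) = s * aC ^ k * g := fun g hg => by
      rw [← mul_assoc, hsc g, mul_assoc, hg, mul_assoc]
    have e1 : (x : Co0) * Co1Centre.eO * (x : Co0)⁻¹ = Co1Centre.eO * (s * aC ^ k) := by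
      rw [e, mul_assoc Co1Centre.eO, hc _ (hxa k)]; group
    have e2 : (Co1Centre.eO * (s * aC ^ k)) * (Co1Centre.eO * (s * aC ^ k)) = 1 := by
      rw [← e1, show (x : Co0) * Co1Centre.eO * (x : Co0)⁻¹ * ((x : Co0) * Co1Centre.eO * (x : Co0)⁻¹) =
        (x : Co0) * (Co1Centre.eO * Co1Centre.eO) * (x : Co0)⁻¹ by group, eO_sq, mul_one, mul_inv_cancel]
    have e3 : aC ^ (k + k) = 1 := by
      rw [pow_add, ← e2]
      calc aC ^ k * aC ^ k = (Co1Centre.eO * Co1Centre.eO) * ((s * s) * (aC ^ k * aC ^ k)) := by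
            rw [eO_sq, hs, one_mul, one_mul]
        _ = (Co1Centre.eO * Co1Centre.eO) * ((s * aC ^ k) * (s * aC ^ k)) := by
            rw [(show Commute s (aC ^ k) from (hsc _).symm).mul_mul_mul_comm]
        _ = Co1Centre.eO * (s * aC ^ k) * (Co1Centre.eO * (s * aC ^ k)) :=
            (show Commute Co1Centre.eO (s * aC ^ k) from hc _ (hpow k)).mul_mul_mul_comm _ _
    have h3 := three_dvd_of_pow e3
    have hk0 : k = 0 := by omega
    subst hk0
    rw [pow_zero, mul_one] at e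
    exact ⟨rfl, by rw [e, hsc]⟩
  have hval : (x : Co0) * Co1Centre.eO = Co1Centre.eO * (x : Co0) *
      ((((⟨Co1Centre.eO, eO_mem_CA⟩ : CA) * x)⁻¹ * (x * ⟨Co1Centre.eO, eO_mem_CA⟩) : CA) : Co0) := by
    simp only [Subgroup.coe_mul, Subgroup.coe_inv, mul_inv_rev]
    group
  rcases hn with hn | hn
  · rw [hn] at hval
    obtain ⟨-, e⟩ := key 1 (one_mul _) (fun g => by simp) (by rwa [one_mul])
    exact mem_Cs_of_comm (by rwa [one_mul] at e)
  · rw [hn] at hval
    obtain ⟨-, e⟩ := key negCo negCo_sq negCo_comm hval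
    exact absurd e (fun e => Co1Centre.not_anti e)

theorem mem_Cz (h : HH) : QuotientGroup.mk' N0 (⟨h, h.2.2⟩ : CA) ∈ Cz := by
  rw [Subgroup.mem_centralizer_singleton_iff, zS, ← map_mul, ← map_mul]
  exact congrArg _ (Subtype.ext (Co1Centre.comm_of_mem h.2.1))

/-- The map onto the centraliser. -/
def rho : HH →* Cz :=
  ((QuotientGroup.mk' N0).comp (Subgroup.inclusion (inf_le_right : HH ≤ CA))).codRestrict _ mem_Cz

theorem rho_val (h : HH) : ((rho h : Cz) : Sq) = QuotientGroup.mk' N0 ⟨h, h.2.2⟩ := rfl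

theorem rho_surjective : Function.Surjective rho := by
  rintro ⟨y, hy⟩
  obtain ⟨x, rfl⟩ := QuotientGroup.mk'_surjective N0 y
  exact ⟨⟨x, lift_Cs hy, x.2⟩, Subtype.ext rfl⟩

theorem rho_eq_one {h : HH} : rho h = 1 ↔ (h : Co0) ∈ A ⊔ Subgroup.center Co0 := by
  rw [← Subtype.val_inj, rho_val, OneMemClass.coe_one, QuotientGroup.mk'_apply, QuotientGroup.eq_one_iff, N0,
    Subgroup.mem_subgroupOf]

theorem negCo_K0 : negCo ∈ K0 := Subgroup.subset_closure (Or.inl (Or.inl rfl))

theorem eO_K0 : Co1Centre.eO ∈ K0 := Subgroup.subset_closure (Or.inl (Or.inr rfl))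

theorem ker_rho_le : rho.ker ≤ theta.ker := fun h hh => by
  obtain ⟨k, -, e | e⟩ := mem_sup_iff.1 (rho_eq_one.1 (MonoidHom.mem_ker.1 hh))
  · rw [show h = toHH aC a_mem_HH ^ k from Subtype.ext e]
    exact pow_mem a_ker _
  · rw [show h = toHH negCo (K0_HH negCo_K0) * toHH aC a_mem_HH ^ k from Subtype.ext e]
    exact mul_mem (K0_ker negCo_K0) (pow_mem a_ker _)

theorem card_ker_rho : Nat.card rho.ker = 6 := by
  have e : rho.ker = (A ⊔ Subgroup.center Co0).subgroupOf HH := by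
    ext h
    rw [MonoidHom.mem_ker, rho_eq_one, Subgroup.mem_subgroupOf]
  rw [e, Nat.card_congr (Subgroup.subgroupOfEquivOfLe sup_HH).toEquiv, card_sup]

theorem card_Cz : Nat.card Cz = 3317760 := by
  have h := rho.ker.card_mul_index
  rw [Subgroup.index_ker, MonoidHom.range_eq_top.2 rho_surjective, Subgroup.card_top, card_ker_rho, card_HH] at h
  omega

/-- The action of the centraliser on the quotient. -/
def thetaZ : Cz →* theta.range :=
  rho.liftOfSurjective rho_surjective ⟨theta.rangeRestrict, by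
    rw [MonoidHom.ker_rangeRestrict]; exact ker_rho_le⟩

theorem thetaZ_rho (h : HH) : thetaZ (rho h) = theta.rangeRestrict h :=
  MonoidHom.liftOfRightInverse_comp_apply ..

theorem thetaZ_surjective : Function.Surjective thetaZ := fun y => by
  obtain ⟨h, rfl⟩ := theta.rangeRestrict_surjective y
  exact ⟨rho h, thetaZ_rho h⟩

/-- The extraspecial subgroup. -/
abbrev Qb : Subgroup Cz := thetaZ.ker

theorem mem_Qb {h : HH} : rho h ∈ Qb ↔ h ∈ theta.ker := by
  rw [MonoidHom.mem_ker, thetaZ_rho, ← MonoidHom.mem_ker, MonoidHom.ker_rangeRestrict]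

theorem card_range : Nat.card theta.range = 25920 := by
  rw [range_theta]
  exact (omega_facts _ (Classical.coe_qfMinus 2 1 1)).1

theorem simple_range : IsSimpleGroup theta.range := by
  rw [range_theta]
  exact (omega_facts _ (Classical.coe_qfMinus 2 1 1)).2

theorem card_Qb : Nat.card Qb = 128 := by
  show Nat.card thetaZ.ker = 128
  have h := thetaZ.ker.card_mul_index
  rw [Subgroup.index_ker, MonoidHom.range_eq_top.2 thetaZ_surjective, Subgroup.card_top, card_range, card_Cz] at h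
  omega

/-- The members of the group of order 256 in the centraliser. -/
def kk : K0 →* Cz := rho.comp (Subgroup.inclusion fun _ hk => K0_HH hk)

theorem kk_val (k : K0) : ((kk k : Cz) : Sq) = QuotientGroup.mk' N0 ⟨k, (K0_HH k.2).2⟩ := rfl

theorem kk_mem (k : K0) : kk k ∈ Qb := mem_Qb.2 (K0_ker k.2)

theorem K0_inter {k : Co0} (hk : k ∈ K0) (h : k ∈ A ⊔ Subgroup.center Co0) : k = 1 ∨ k = negCo := by
  obtain ⟨i, hi, e⟩ := mem_sup_iff.1 h
  have hp : k ^ 256 = 1 := by
    have := pow_card_eq_one' (x := (⟨k, hk⟩ : K0))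
    rw [card_K0] at this
    exact congrArg Subtype.val this
  have hn : negCo ^ 256 = (1 : Co0) := by
    rw [show 256 = 2 * 128 from rfl, pow_mul, pow_two, negCo_sq, one_pow]
  have hi0 : aC ^ i = 1 → i = 0 := fun h => by have := three_dvd_of_pow h; omega
  have h256 : aC ^ (i * 256) = 1 := by
    rw [pow_mul]
    rcases e with rfl | rfl
    · exact hp
    · rwa [(show Commute negCo (aC ^ i) from (negCo_comm _).symm).mul_pow, hn, one_mul] at hp
  obtain rfl : i = 0 := by have := three_dvd_of_pow h256; omega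
  simpa using e

theorem range_kk : kk.range = Qb := by
  refine Subgroup.eq_of_le_of_card_ge (by rintro _ ⟨k, rfl⟩; exact kk_mem k) ?_
  have h := kk.ker.card_mul_index
  rw [Subgroup.index_ker, card_K0] at h
  have hk : Nat.card kk.ker ≤ 2 := by
    have hs : ((↑) '' (kk.ker : Set K0) : Set Co0) ⊆ {1, negCo} := by
      rintro _ ⟨k, hk, rfl⟩
      exact K0_inter k.2 (rho_eq_one.1 (MonoidHom.mem_ker.1 hk))
    have h1 := Set.ncard_le_ncard hs (Set.toFinite _)
    rw [Set.ncard_image_of_injective _ Subtype.val_injective, Set.ncard_pair negCo_ne.symm] at h1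
    exact h1
  rw [card_Qb]
  have := Nat.mul_le_mul_right (Nat.card kk.range) hk
  omega

theorem exists_kk {x : Cz} (hx : x ∈ Qb) : ∃ k : K0, kk k = x := by
  rw [← range_kk] at hx
  exact hx

/-- The involution in its centraliser. -/
def zz : Cz := kk ⟨Co1Centre.eO, eO_K0⟩

theorem zz_val : ((zz : Cz) : Sq) = zS := rfl

theorem zz_mem : zz ∈ Qb := kk_mem _

theorem zz_ne : zz ≠ 1 := fun h => zS_ne (by rw [← zz_val, h, OneMemClass.coe_one])

theorem zz_central (x : Cz) : x * zz = zz * x :=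
  Subtype.ext (Subgroup.mem_centralizer_singleton_iff.1 x.2)

theorem kk_negCo : kk ⟨negCo, negCo_K0⟩ = 1 := rho_eq_one.2 negCo_center

theorem eC_not : eC ∉ A ⊔ Subgroup.center Co0 := fun h =>
  not_six (x := ⟨eC, mul_mem negCo_mem_CA eO_mem_CA⟩) hasT_eC (by decide +kernel) (Subgroup.mem_subgroupOf.2 h)

theorem B6_nondeg : ∀ v : V6, (∀ w, B6 v w = 0) → v = 0 := by decide +kernel

theorem four_of_iota_zero {k : K0} (h : iota k = 0) :
    (k : Co0) = 1 ∨ (k : Co0) = negCo ∨ (k : Co0) = Co1Centre.eO ∨ (k : Co0) = eC := by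
  have h4 : Nat.card iotaHom.ker = 4 := by
    have h := iotaHom.ker.card_mul_index
    rw [Subgroup.index_ker, MonoidHom.range_eq_top.2 iotaHom_surjective, Subgroup.card_top,
      Nat.card_eq_fintype_card (α := Multiplicative V6), Fintype.card_multiplicative,
      show Fintype.card V6 = 64 from rfl, card_K0] at h
    omega
  have hsub : ({1, negCo, Co1Centre.eO, eC} : Set Co0) ⊆ (↑) '' (iotaHom.ker : Set K0) := by
    have hz : ∀ k : K0, iota k = 0 → (k : Co0) ∈ ((↑) '' (iotaHom.ker : Set K0) : Set Co0) := fun k hk =>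
      ⟨k, show Multiplicative.ofAdd (iota k) = 1 by rw [hk, ofAdd_zero], rfl⟩
    rintro x (rfl | rfl | rfl | rfl)
    · exact hz 1 iota_one
    · exact hz ⟨negCo, negCo_K0⟩ (iota_central (Or.inl rfl))
    · exact hz ⟨_, eO_K0⟩ (iota_central (Or.inr rfl))
    · refine hz (⟨negCo, negCo_K0⟩ * ⟨_, eO_K0⟩) ?_
      rw [iota_mul, iota_central (Or.inl rfl), iota_central (Or.inr rfl), add_zero]
  have hncard : ({1, negCo, Co1Centre.eO, eC} : Set Co0).ncard = 4 := by
    have hn : HasT negCo (oneP.map negX) := by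
      have := hasT_one.neg
      rwa [mul_one] at this
    rw [Set.ncard_insert_of_notMem (by
        simp only [Set.mem_insert_iff, Set.mem_singleton_iff, not_or]
        exact ⟨negCo_ne.symm, ne_of hasT_one hasT_eO (by decide +kernel), eC_ne.symm⟩) (Set.toFinite _),
      Set.ncard_insert_of_notMem (by
        simp only [Set.mem_insert_iff, Set.mem_singleton_iff, not_or]
        exact ⟨ne_of hn hasT_eO (by decide +kernel), ne_of hn hasT_eC (by decide +kernel)⟩) (Set.toFinite _),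
      Set.ncard_pair (ne_of hasT_eO hasT_eC (by decide +kernel))]
  have he : ({1, negCo, Co1Centre.eO, eC} : Set Co0) = (↑) '' (iotaHom.ker : Set K0) :=
    Set.eq_of_subset_of_ncard_le hsub (by
      rw [Set.ncard_image_of_injective _ Subtype.val_injective, hncard]
      exact le_of_eq h4) (Set.toFinite _)
  have hm : (k : Co0) ∈ ({1, negCo, Co1Centre.eO, eC} : Set Co0) := by
    rw [he]; exact ⟨k, show Multiplicative.ofAdd (iota k) = 1 by rw [h, ofAdd_zero], rfl⟩
  exact hm

theorem kk_four {k : K0} (h : iota k = 0) : kk k = 1 ∨ kk k = zz := by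
  rcases four_of_iota_zero h with e | e | e | e
  · exact Or.inl (by rw [show k = 1 from Subtype.ext e, map_one])
  · exact Or.inl (by rw [show k = ⟨negCo, negCo_K0⟩ from Subtype.ext e, kk_negCo])
  · exact Or.inr (by rw [show k = ⟨_, eO_K0⟩ from Subtype.ext e]; rfl)
  · refine Or.inr ?_
    rw [show k = ⟨negCo, negCo_K0⟩ * ⟨_, eO_K0⟩ from Subtype.ext e, map_mul, kk_negCo, one_mul]
    rfl

theorem kk_comm {k l : K0} (h : kk k * kk l = kk l * kk k) : B6 (iota k) (iota l) = 0 := by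
  rcases zmod2 (B6 (iota k) (iota l)) with e | e
  · exact e
  · exfalso
    have hc : (k : Co0) * l = Ev (B6 (iota k) (iota l)) * (l * k) := com_pair k l
    rw [e, Ev_one] at hc
    have h1 : kk (k * l * (l * k)⁻¹) = 1 := by rw [map_mul, map_inv, map_mul, map_mul, h, mul_inv_cancel]
    have h2 := rho_eq_one.1 h1
    refine eC_not ?_
    have e2 : ((k * l * (l * k)⁻¹ : K0) : Co0) = eC := by
      show (k : Co0) * l * ((l : Co0) * k)⁻¹ = eC
      rw [hc, mul_inv_cancel_right]
    exact e2 ▸ h2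

theorem center_Qb (x : Qb) : x ∈ Subgroup.center Qb ↔ x = 1 ∨ x = ⟨zz, zz_mem⟩ := by
  constructor
  · intro hx
    obtain ⟨k, hk⟩ := exists_kk x.2
    have h0 : iota k = 0 := B6_nondeg _ fun w => by
      obtain ⟨l, rfl⟩ := iota_surj w
      refine kk_comm ?_
      rw [hk]
      exact congrArg Subtype.val (Subgroup.mem_center_iff.1 hx ⟨kk l, kk_mem l⟩).symm
    exact (kk_four h0).imp (fun e => Subtype.ext (hk ▸ e)) fun e => Subtype.ext (hk ▸ e)
  · rintro (rfl | rfl)
    · exact one_mem _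
    · exact Subgroup.mem_center_iff.2 fun y => Subtype.ext (zz_central y)

theorem square_Qb (x : Qb) : x ^ 2 = 1 ∨ x ^ 2 = ⟨zz, zz_mem⟩ := by
  obtain ⟨k, hk⟩ := exists_kk x.2
  have e : (x : Cz) ^ 2 = kk (k * k) := by rw [pow_two, map_mul, hk]
  have h0 : iota (k * k) = 0 := by rw [iota_mul]; funext i; exact CharTwo.add_self_eq_zero _
  exact (kk_four h0).imp (fun h => Subtype.ext (e.trans h)) fun h => Subtype.ext (e.trans h)

theorem extraspecial_Qb : Cfsg.IsExtraspecial 2 Qb := by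
  refine Co1Centre.extraspecial_of_squares (n := 7) (by rw [card_Qb]; norm_num) (by norm_num) ?_
    fun x => (center_Qb _).2 (square_Qb x)
  rw [← SetLike.coe_sort_coe, Nat.card_coe_set_eq,
    show (Subgroup.center Qb : Set Qb) = {1, ⟨zz, zz_mem⟩} from Set.ext fun x => (center_Qb x).trans (by simp)]
  exact Set.ncard_pair fun h => zz_ne (congrArg Subtype.val h).symm

theorem centralizer_Qb_le : Subgroup.centralizer (Qb : Set Cz) ≤ Qb := by
  intro x hx
  obtain ⟨h, rfl⟩ := rho_surjective x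
  refine mem_Qb.2 (mem_ker_theta.2 fun k => ?_)
  have e : kk (conjK h k * k⁻¹) = 1 := by
    rw [map_mul, map_inv, show kk (conjK h k) = rho h * kk k * (rho h)⁻¹ by
      rw [← map_inv]; show rho _ = rho h * rho _ * rho h⁻¹; rw [← map_mul, ← map_mul]; rfl]
    rw [← Subgroup.mem_centralizer_iff.1 hx (kk k) (kk_mem k), mul_inv_cancel_right, mul_inv_cancel]
  have h0 : iota (conjK h k * k⁻¹) = 0 := by
    rcases K0_inter (conjK h k * k⁻¹).2 (rho_eq_one.1 e) with e | e
    · rw [show conjK h k * k⁻¹ = 1 from Subtype.ext e, iota_one]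
    · exact iota_central (Or.inl e)
  rw [show conjK h k = conjK h k * k⁻¹ * k from (inv_mul_cancel_right _ _).symm, iota_mul, h0, zero_add]

theorem gfit_Cz : Cfsg.generalizedFittingSubgroup Cz = Qb := by
  haveI : Fact (Nat.Prime 2) := ⟨Nat.prime_two⟩
  have hle : Qb ≤ Cfsg.pCore 2 Cz := le_sSup ⟨inferInstance, IsPGroup.of_card (n := 7) (by rw [card_Qb]; norm_num)⟩
  have hge : Cfsg.pCore 2 Cz ≤ Qb := by
    haveI := simple_range
    have hN : ((Cfsg.pCore 2 Cz).map thetaZ).Normal :=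
      (Grp.pCore_isNormal : (Cfsg.pCore 2 Cz).Normal).map _ thetaZ_surjective
    rcases hN.eq_bot_or_eq_top with h | h
    · intro x hx
      have hm : thetaZ x ∈ (Cfsg.pCore 2 Cz).map thetaZ := ⟨x, hx, rfl⟩
      rw [h, Subgroup.mem_bot] at hm
      exact hm
    · exfalso
      obtain ⟨k, hk⟩ := ((Grp.pCore_isPGroup (p := 2) (G := Cz)).map thetaZ).exists_card_eq
      rw [h, Subgroup.card_top, card_range] at hk
      have h5 : 5 ∣ 2 ^ k := hk ▸ by norm_num
      exact absurd ((Nat.Prime.dvd_of_dvd_pow (by norm_num) h5)) (by norm_num)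
  have he : Cfsg.pCore 2 Cz = Qb := le_antisymm hge hle
  rw [generalizedFittingSubgroup_eq_of_charP (p := 2) (by
    show Subgroup.centralizer (Cfsg.pCore 2 Cz : Set Cz) ≤ Cfsg.pCore 2 Cz
    rw [he]; exact centralizer_Qb_le), he]

theorem quotient_iso :
    Nonempty (Cz ⧸ Qb ≃* ↥(Omega (ZMod 2) (quadFormMinus 2 (ZMod 2) 1 1))) := by
  suffices ∀ f : V6 → ZMod 2, f = ⇑QM → Nonempty (Cz ⧸ Qb ≃* ↥(Omega (ZMod 2) f)) from
    this _ (Classical.coe_qfMinus 2 1 1).symm
  rintro f rfl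
  exact ⟨(QuotientGroup.quotientKerEquivOfSurjective thetaZ thetaZ_surjective).trans
    (MulEquiv.subgroupCongr range_theta)⟩

/-- The rows of the conjugate sign change. -/
def xMov : List ℕ :=
  (List.range 24).map fun i => Golay.pack 24 fun j => if i = j then (if (1009728 : ℕ).testBit i then 8 else 24) else 16

theorem mov_chk : (chkT xMov && chkComm xMov && chkCs xMov && chkKer xMov && (mulP movT eP == mulP xMov movT) &&
    chkComm movT && !sixP.contains (mulP xMov eP)) = true := by decide +kernel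

theorem not_weakly_closed : ∃ g : Sq, (∃ hq : g * zS * g⁻¹ ∈ Cz, (⟨g * zS * g⁻¹, hq⟩ : Cz) ∈ Qb) ∧
    g * zS * g⁻¹ ≠ zS := by
  have h := mov_chk
  simp only [Bool.and_eq_true, Bool.not_eq_true', beq_iff_eq] at h
  obtain ⟨⟨⟨⟨⟨⟨h1, h2⟩, h3⟩, h4⟩, h5⟩, h6⟩, h7⟩ := h
  have hX : HasT (ofT xMov) xMov := hasT_ofT h1
  have hm : HasT (ofT movT) movT := hasT_ofT chk_mov
  have hXH : ofT xMov ∈ HH := ⟨mem_Cs_of hX h3, mem_CA_of hX h2⟩
  have hXK : ofT xMov ∈ K0 := by
    rw [K0_eq]
    exact ⟨⟨_, hXH⟩, mem_ker_of (g := ⟨ofT xMov, hXH.1⟩) hX h4, rfl⟩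
  let m : CA := ⟨ofT movT, mem_CA_of hm h6⟩
  have e : ofT movT * Co1Centre.eO = ofT xMov * ofT movT := by
    have := hm.mul hasT_eO
    rw [h5] at this
    exact this.eq (hX.mul hm)
  have key : QuotientGroup.mk' N0 m * zS * (QuotientGroup.mk' N0 m)⁻¹ = ((kk ⟨_, hXK⟩ : Cz) : Sq) := by
    rw [kk_val, zS, ← map_mul, ← map_inv, ← map_mul]
    refine congrArg _ (Subtype.ext ?_)
    show ofT movT * Co1Centre.eO * (ofT movT)⁻¹ = ofT xMov
    rw [e, mul_inv_cancel_right]
  refine ⟨QuotientGroup.mk' N0 m, ⟨key ▸ (kk ⟨_, hXK⟩).2, ?_⟩, ?_⟩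
  · convert kk_mem ⟨_, hXK⟩ using 1
    exact Subtype.ext key
  · rw [key, kk_val, zS]
    intro h
    have h' : QuotientGroup.mk' N0 ((⟨_, hXH.2⟩ : CA) * ⟨Co1Centre.eO, eO_mem_CA⟩) = 1 := by
      rw [map_mul, h, ← map_mul, show (⟨Co1Centre.eO, eO_mem_CA⟩ : CA) * ⟨Co1Centre.eO, eO_mem_CA⟩ = 1 from
        Subtype.ext eO_sq, map_one]
    rw [QuotientGroup.mk'_apply, QuotientGroup.eq_one_iff] at h'
    exact not_six (hX.mul hasT_eO) h7 h'

end Cfsg.Agent.Spor.CoSuz

end
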