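import Cfsg.Agent.Lib.Spor.CoSuz.Spec
import Cfsg.Agent.Lib.Spor.CoSuz.CandAData

/-! The enumeration gives exactly the listed candidates. -/

set_option autoImplicit false
set_option maxRecDepth 100000

namespace Cfsg.Agent.Spor.CoSuz

open Cfsg.Agent.Spor.Leech

theorem oddA0 : (oddPart specA 0 == candA0) = true := by decide +kernel

theorem oddA1 : (oddPart specA 1 == candA1) = true := by decide +kernel

theorem oddA2 : (oddPart specA 2 == candA2) = true := by decide +kernel

theorem oddA3 : (oddPart specA 3 == candA3) = true := by decide +kernel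

theorem oddA4 : (oddPart specA 4 == candA4) = true := by decide +kernel

theorem oddA5 : (oddPart specA 5 == candA5) = true := by decide +kernel

theorem oddA6 : (oddPart specA 6 == candA6) = true := by decide +kernel

theorem oddA7 : (oddPart specA 7 == candA7) = true := by decide +kernel

theorem oddA8 : (oddPart specA 8 == candA8) = true := by decide +kernel

theorem oddA9 : (oddPart specA 9 == candA9) = true := by decide +kernel

theorem oddA10 : (oddPart specA 10 == candA10) = true := by decide +kernel

theorem oddA11 : (oddPart specA 11 == candA11) = true := by decide +kernel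

theorem oddA12 : (oddPart specA 12 == candA12) = true := by decide +kernel

theorem oddA13 : (oddPart specA 13 == candA13) = true := by decide +kernel

theorem oddA14 : (oddPart specA 14 == candA14) = true := by decide +kernel

theorem oddA15 : (oddPart specA 15 == candA15) = true := by decide +kernel

theorem octA0 : (octPart specA 0 == candA16) = true := by decide +kernel

theorem octA1 : (octPart specA 1 == candA17) = true := by decide +kernel

theorem octA2 : (octPart specA 2 == candA18) = true := by decide +kernel

theorem pairA : (pairList specA == candA19) = true := by decide +kernel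

/-- The enumeration lies in the blocks. -/
theorem mem_candA {x : ℕ} (h : x ∈ shortList specA) : x ∈ candA.flatten := by
  rcases shortList_parts h with ⟨i, hi, hx⟩ | ⟨i, hi, hx⟩ | hx
  · interval_cases i
    · rw [beq_iff_eq.1 oddA0] at hx
      exact List.mem_flatten.2 ⟨_, by simp [candA], hx⟩
    · rw [beq_iff_eq.1 oddA1] at hx
      exact List.mem_flatten.2 ⟨_, by simp [candA], hx⟩
    · rw [beq_iff_eq.1 oddA2] at hx
      exact List.mem_flatten.2 ⟨_, by simp [candA], hx⟩
    · rw [beq_iff_eq.1 oddA3] at hx
      exact List.mem_flatten.2 ⟨_, by simp [candA], hx⟩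
    · rw [beq_iff_eq.1 oddA4] at hx
      exact List.mem_flatten.2 ⟨_, by simp [candA], hx⟩
    · rw [beq_iff_eq.1 oddA5] at hx
      exact List.mem_flatten.2 ⟨_, by simp [candA], hx⟩
    · rw [beq_iff_eq.1 oddA6] at hx
      exact List.mem_flatten.2 ⟨_, by simp [candA], hx⟩
    · rw [beq_iff_eq.1 oddA7] at hx
      exact List.mem_flatten.2 ⟨_, by simp [candA], hx⟩
    · rw [beq_iff_eq.1 oddA8] at hx
      exact List.mem_flatten.2 ⟨_, by simp [candA], hx⟩
    · rw [beq_iff_eq.1 oddA9] at hx
      exact List.mem_flatten.2 ⟨_, by simp [candA], hx⟩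
    · rw [beq_iff_eq.1 oddA10] at hx
      exact List.mem_flatten.2 ⟨_, by simp [candA], hx⟩
    · rw [beq_iff_eq.1 oddA11] at hx
      exact List.mem_flatten.2 ⟨_, by simp [candA], hx⟩
    · rw [beq_iff_eq.1 oddA12] at hx
      exact List.mem_flatten.2 ⟨_, by simp [candA], hx⟩
    · rw [beq_iff_eq.1 oddA13] at hx
      exact List.mem_flatten.2 ⟨_, by simp [candA], hx⟩
    · rw [beq_iff_eq.1 oddA14] at hx
      exact List.mem_flatten.2 ⟨_, by simp [candA], hx⟩
    · rw [beq_iff_eq.1 oddA15] at hx
      exact List.mem_flatten.2 ⟨_, by simp [candA], hx⟩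
  · interval_cases i
    · rw [beq_iff_eq.1 octA0] at hx
      exact List.mem_flatten.2 ⟨_, by simp [candA], hx⟩
    · rw [beq_iff_eq.1 octA1] at hx
      exact List.mem_flatten.2 ⟨_, by simp [candA], hx⟩
    · rw [beq_iff_eq.1 octA2] at hx
      exact List.mem_flatten.2 ⟨_, by simp [candA], hx⟩
  · rw [beq_iff_eq.1 pairA] at hx
    exact List.mem_flatten.2 ⟨_, by simp [candA], hx⟩

end Cfsg.Agent.Spor.CoSuz
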