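import Cfsg.Agent.Lib.Spor.CoSuz.Spec
import Cfsg.Agent.Lib.Spor.CoSuz.CandBData

/-! The enumeration gives exactly the listed candidates. -/

set_option autoImplicit false
set_option maxRecDepth 100000

namespace Cfsg.Agent.Spor.CoSuz

open Cfsg.Agent.Spor.Leech

theorem oddB0 : (oddPart specB 0 == candB0) = true := by decide +kernel

theorem oddB1 : (oddPart specB 1 == candB1) = true := by decide +kernel

theorem oddB2 : (oddPart specB 2 == candB2) = true := by decide +kernel

theorem oddB3 : (oddPart specB 3 == candB3) = true := by decide +kernel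

theorem oddB4 : (oddPart specB 4 == candB4) = true := by decide +kernel

theorem oddB5 : (oddPart specB 5 == candB5) = true := by decide +kernel

theorem oddB6 : (oddPart specB 6 == candB6) = true := by decide +kernel

theorem oddB7 : (oddPart specB 7 == candB7) = true := by decide +kernel

theorem oddB8 : (oddPart specB 8 == candB8) = true := by decide +kernel

theorem oddB9 : (oddPart specB 9 == candB9) = true := by decide +kernel

theorem oddB10 : (oddPart specB 10 == candB10) = true := by decide +kernel

theorem oddB11 : (oddPart specB 11 == candB11) = true := by decide +kernel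

theorem oddB12 : (oddPart specB 12 == candB12) = true := by decide +kernel

theorem oddB13 : (oddPart specB 13 == candB13) = true := by decide +kernel

theorem oddB14 : (oddPart specB 14 == candB14) = true := by decide +kernel

theorem oddB15 : (oddPart specB 15 == candB15) = true := by decide +kernel

theorem octB0 : (octPart specB 0 == candB16) = true := by decide +kernel

theorem octB1 : (octPart specB 1 == candB17) = true := by decide +kernel

theorem octB2 : (octPart specB 2 == candB18) = true := by decide +kernel

theorem pairB : (pairList specB == candB19) = true := by decide +kernel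

/-- The enumeration lies in the blocks. -/
theorem mem_candB {x : ℕ} (h : x ∈ shortList specB) : x ∈ candB.flatten := by
  rcases shortList_parts h with ⟨i, hi, hx⟩ | ⟨i, hi, hx⟩ | hx
  · interval_cases i
    · rw [beq_iff_eq.1 oddB0] at hx
      exact List.mem_flatten.2 ⟨_, by simp [candB], hx⟩
    · rw [beq_iff_eq.1 oddB1] at hx
      exact List.mem_flatten.2 ⟨_, by simp [candB], hx⟩
    · rw [beq_iff_eq.1 oddB2] at hx
      exact List.mem_flatten.2 ⟨_, by simp [candB], hx⟩
    · rw [beq_iff_eq.1 oddB3] at hx
      exact List.mem_flatten.2 ⟨_, by simp [candB], hx⟩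
    · rw [beq_iff_eq.1 oddB4] at hx
      exact List.mem_flatten.2 ⟨_, by simp [candB], hx⟩
    · rw [beq_iff_eq.1 oddB5] at hx
      exact List.mem_flatten.2 ⟨_, by simp [candB], hx⟩
    · rw [beq_iff_eq.1 oddB6] at hx
      exact List.mem_flatten.2 ⟨_, by simp [candB], hx⟩
    · rw [beq_iff_eq.1 oddB7] at hx
      exact List.mem_flatten.2 ⟨_, by simp [candB], hx⟩
    · rw [beq_iff_eq.1 oddB8] at hx
      exact List.mem_flatten.2 ⟨_, by simp [candB], hx⟩
    · rw [beq_iff_eq.1 oddB9] at hx
      exact List.mem_flatten.2 ⟨_, by simp [candB], hx⟩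
    · rw [beq_iff_eq.1 oddB10] at hx
      exact List.mem_flatten.2 ⟨_, by simp [candB], hx⟩
    · rw [beq_iff_eq.1 oddB11] at hx
      exact List.mem_flatten.2 ⟨_, by simp [candB], hx⟩
    · rw [beq_iff_eq.1 oddB12] at hx
      exact List.mem_flatten.2 ⟨_, by simp [candB], hx⟩
    · rw [beq_iff_eq.1 oddB13] at hx
      exact List.mem_flatten.2 ⟨_, by simp [candB], hx⟩
    · rw [beq_iff_eq.1 oddB14] at hx
      exact List.mem_flatten.2 ⟨_, by simp [candB], hx⟩
    · rw [beq_iff_eq.1 oddB15] at hx
      exact List.mem_flatten.2 ⟨_, by simp [candB], hx⟩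
  · interval_cases i
    · rw [beq_iff_eq.1 octB0] at hx
      exact List.mem_flatten.2 ⟨_, by simp [candB], hx⟩
    · rw [beq_iff_eq.1 octB1] at hx
      exact List.mem_flatten.2 ⟨_, by simp [candB], hx⟩
    · rw [beq_iff_eq.1 octB2] at hx
      exact List.mem_flatten.2 ⟨_, by simp [candB], hx⟩
  · rw [beq_iff_eq.1 pairB] at hx
    exact List.mem_flatten.2 ⟨_, by simp [candB], hx⟩

end Cfsg.Agent.Spor.CoSuz
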