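import Cfsg.Agent.Lib.Spor.CoSuz.Mat
import Cfsg.Agent.Lib.Spor.CoSuz.CandA
import Cfsg.Agent.Lib.Spor.CoSuz.CandB
import Cfsg.Agent.Lib.Spor.Leech.CrossMaximal

/-!
The centraliser of an element of order three without fixed points on the rank 24 lattice has at most
`196560 · 891 · 256 · 60` members.
-/

set_option autoImplicit false
set_option maxRecDepth 100000

noncomputable section

namespace Cfsg.Agent.Spor.CoSuz

open Cfsg Cfsg.Agent.Spor.Leech

/-- The sum of the products of the entries. -/
def gdot : ℕ → ℕ → ℕ → ℕ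
  | 0, _, _ => 0
  | n + 1, U, X => Nat.add (Nat.mul (Nat.mod U 32) (Nat.mod X 32)) (gdot n (Nat.shiftRight U 5) (Nat.shiftRight X 5))

/-- Two packed vectors have the same product with a third. -/
def sd (U X Y : ℕ) : Bool :=
  Nat.beq (Nat.add (gdot 24 U X) (Nat.mul 16 (gsum 24 Y))) (Nat.add (gdot 24 U Y) (Nat.mul 16 (gsum 24 X)))

theorem gdot_eq : ∀ (n U X : ℕ), gdot n U X = ((List.range n).map fun r => Golay.get U r * Golay.get X r).sum
  | 0, _, _ => rfl
  | n + 1, U, X => by
    rw [gdot, gdot_eq n, List.range_succ_eq_map, List.map_cons, List.sum_cons, List.map_map, get_zero, get_zero,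
      Nat.add_eq, Nat.mul_eq]
    simp [Function.comp_def, get_shift']

theorem dot_dec (U X : ℕ) : dotInt (decV U) (decV X) =
    (gdot 24 U X : ℤ) - 16 * (gsum 24 U : ℤ) - 16 * (gsum 24 X : ℤ) + 6144 := by
  rw [gdot_eq, gsum_eq, gsum_eq, sum_range_idx, sum_range_idx, sum_range_idx]
  simp only [dotInt, decV, sub_mul, mul_sub, Finset.sum_sub_distrib, ← Finset.sum_mul, ← Finset.mul_sum,
    Finset.sum_const, Finset.card_univ, Golay.card_golayPt]
  push_cast
  ring

theorem sd_iff {u x y : Vec} (hu : Small u) (hx : Small x) (hy : Small y) :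
    sd (encV u) (encV x) (encV y) = true ↔ dotInt u x = dotInt u y := by
  have h1 := dot_dec (encV u) (encV x)
  have h2 := dot_dec (encV u) (encV y)
  rw [decV_encV hu, decV_encV hx] at h1
  rw [decV_encV hu, decV_encV hy] at h2
  have key : sd (encV u) (encV x) (encV y) = true ↔
      gdot 24 (encV u) (encV x) + 16 * gsum 24 (encV y) = gdot 24 (encV u) (encV y) + 16 * gsum 24 (encV x) :=
    ⟨Nat.eq_of_beq_eq_true, fun h => by
      show Nat.beq (_ + 16 * _) (_ + 16 * _) = true
      rw [h]; exact Nat.beq_refl _⟩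
  rw [key, h1, h2]
  omega

/-- The packed vector of a chosen orbit. -/
def oe (j i : ℕ) : ℕ := orbE.getD (2 * j + i) 0

/-- The products with the two vectors of an orbit agree. -/
def agree (k X Y : ℕ) : Bool := sd (oe k 0) X Y && sd (oe k 1) X Y

theorem orb_chk : ((List.range 12).all fun j => (List.range 2).all fun i => inL (ofList (orbL j i)) &&
    decide (sqNorm (ofList (orbL j i)) = 32) && Nat.beq (encV (ofList (orbL j i))) (oe j i)) = true := by
  decide +kernel

theorem orb_spec (j : Fin 12) (i : Fin 2) : inL (ofList (orbL j i)) = true ∧ sqNorm (ofList (orbL j i)) = 32 ∧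
    encV (ofList (orbL j i)) = oe j i := by
  have h := List.all_eq_true.1 (List.all_eq_true.1 orb_chk j (List.mem_range.2 j.2)) i (List.mem_range.2 i.2)
  rw [Bool.and_eq_true, Bool.and_eq_true, decide_eq_true_eq] at h
  exact ⟨h.1.1, h.1.2, Nat.eq_of_beq_eq_true h.2⟩

/-- A point of a chosen orbit. -/
def pnt (j : Fin 12) (i : Fin 2) : leechLattice := ⟨ofList (orbL j i), mem_of_inL (orb_spec j i).1⟩

theorem pnt_norm (j : Fin 12) (i : Fin 2) : sqNorm (pnt j i : Vec) = 32 := (orb_spec j i).2.1

theorem pnt_small (j : Fin 12) (i : Fin 2) : Small (pnt j i : Vec) :=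
  small_of_norm (by rw [pnt_norm]; norm_num)

theorem encV_pnt (j : Fin 12) (i : Fin 2) : encV (pnt j i : Vec) = oe j i := (orb_spec j i).2.2

theorem prodA : ((List.range 4).all fun j => Nat.beq j 0 || (decide (dotInt (ofList (orbL 0 0)) (ofList (orbL j 0)) = 16) &&
    decide (dotInt (ofList (orbL 0 1)) (ofList (orbL j 0)) = 0))) = true := by decide +kernel

theorem prodB : ((List.range 12).all fun j => Nat.blt j 4 || (decide (dotInt (ofList (orbL 0 0)) (ofList (orbL j 0)) = 16) &&
    decide (dotInt (ofList (orbL 0 1)) (ofList (orbL j 0)) = -8))) = true := by decide +kernel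

theorem lenA : candA.flatten.length = 891 := by decide +kernel

theorem lenA2 : (candA.flatten.filter fun X => agree 1 X (oe 2 0)).length = 256 := by decide +kernel

theorem lenA3 : (candA.flatten.filter fun X => agree 1 X (oe 3 0) && agree 2 X (oe 3 0)).length = 60 := by
  decide +kernel

/-- Only one candidate has the products of a chosen vector with the earlier ones. -/
def oneLeft (j : ℕ) : Bool :=
  (candB.flatten.filter fun X => (List.range j).all fun k => Nat.beq k 0 || agree k X (oe j 0)) == [oe j 0]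

theorem left4 : oneLeft 4 = true := by decide +kernel
theorem left5 : oneLeft 5 = true := by decide +kernel
theorem left6 : oneLeft 6 = true := by decide +kernel
theorem left7 : oneLeft 7 = true := by decide +kernel
theorem left8 : oneLeft 8 = true := by decide +kernel
theorem left9 : oneLeft 9 = true := by decide +kernel
theorem left10 : oneLeft 10 = true := by decide +kernel
theorem left11 : oneLeft 11 = true := by decide +kernel

theorem left_all (j : Fin 12) (h : 4 ≤ j.val) : oneLeft j = true := by
  obtain ⟨j, hj⟩ := j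
  dsimp only at h ⊢
  interval_cases j
  exacts [left4, left5, left6, left7, left8, left9, left10, left11]

theorem inv_chk : ∀ p q : GolayPt, ((List.range 12).flatMap fun j => (List.range 2).map fun i =>
    (invT.getD (Golay.idx p) []).getD (2 * j + i) 0 * ofList (orbL j i) q).sum = if q = p then invD else 0 := by
  decide +kernel

/-- An automorphism fixing all the chosen points is trivial. -/
theorem eq_one_of_fix {g : Co0} (h : ∀ j i, g • pnt j i = pnt j i) : g = 1 := by
  refine Subtype.ext (Equiv.ext fun x => Subtype.ext (funext fun p => ?_))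
  show ((g • x : leechLattice) : Vec) p = (x : Vec) p
  have key : ∀ j i, ∑ q, (pnt j i : Vec) q * ((g • x : leechLattice) : Vec) q =
      ∑ q, (pnt j i : Vec) q * (x : Vec) q := fun j i => by
    have := co_dot g (pnt j i) x
    rwa [h] at this
  set c : Fin 12 → Fin 2 → ℤ := fun j i => (invT.getD (Golay.idx p) []).getD (2 * j.val + i.val) 0
  have hc : ∀ q, ∑ j : Fin 12, ∑ i : Fin 2, c j i * (pnt j i : Vec) q = if q = p then invD else 0 := fun q => by
    rw [← inv_chk p q]
    simp [Fin.sum_univ_succ, List.range_succ, c, pnt]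
    ring
  have e : ∀ y : Vec, invD * y p = ∑ j : Fin 12, ∑ i : Fin 2, c j i * ∑ q, (pnt j i : Vec) q * y q := fun y => by
    calc invD * y p = ∑ q, (if q = p then invD else 0) * y q := by simp
      _ = ∑ q, (∑ j : Fin 12, ∑ i : Fin 2, c j i * (pnt j i : Vec) q) * y q := by simp only [hc]
      _ = _ := by
        simp only [Finset.sum_mul, Finset.mul_sum, mul_assoc]
        rw [Finset.sum_comm]
        exact Finset.sum_congr rfl fun j _ => Finset.sum_comm
  have h2 : invD * ((g • x : leechLattice) : Vec) p = invD * (x : Vec) p := by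
    rw [e, e]; simp only [key]
  exact mul_left_cancel₀ (by decide +kernel) h2

/-- Fixed points of a chosen orbit. -/
def Fixed (g : Co0) (j : Fin 12) : Prop := ∀ i, g • pnt j i = pnt j i

theorem dots_fixed {g : Co0} {j : Fin 12} (hf : Fixed g j) (x : leechLattice) (i : Fin 2) :
    dotInt (pnt j i : Vec) ((g • x : leechLattice) : Vec) = dotInt (pnt j i : Vec) (x : Vec) := by
  have := co_dot g (pnt j i) x
  rwa [hf i] at this

theorem agree_of_fixed {g : Co0} {k j : Fin 12} (hf : Fixed g k) :
    agree k (encV ((g • pnt j 0 : leechLattice) : Vec)) (oe j 0) = true := by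
  have hs : Small ((g • pnt j 0 : leechLattice) : Vec) :=
    small_of_norm (by rw [co_norm, pnt_norm]; norm_num)
  have key : ∀ i : Fin 2, sd (oe k i) (encV ((g • pnt j 0 : leechLattice) : Vec)) (oe j 0) = true := fun i => by
    have h := (sd_iff (pnt_small k i) hs (pnt_small j 0)).2 (dots_fixed hf (pnt j 0) i)
    rwa [encV_pnt, encV_pnt] at h
  rw [agree, Bool.and_eq_true]
  exact ⟨key 0, key 1⟩

theorem imageA {g : Co0} (h0 : Fixed g 0) {j : Fin 12} (h1 : 1 ≤ j.val) (h4 : j.val < 4) :
    encV ((g • pnt j 0 : leechLattice) : Vec) ∈ candA.flatten := by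
  have h := List.all_eq_true.1 prodA j (List.mem_range.2 h4)
  simp only [Bool.or_eq_true, Bool.and_eq_true, decide_eq_true_eq] at h
  rcases h with h | ⟨ha, hb⟩
  · have := Nat.eq_of_beq_eq_true h; omega
  refine mem_candA (mem_shortList (fits_of_chk specA_ok) (g • pnt j 0).2 ((co_norm g _).trans (pnt_norm j 0))
    (dot_comb _ fun bc hbc => ?_))
  simp only [condA, List.mem_cons, List.not_mem_nil, or_false] at hbc
  rcases hbc with rfl | rfl
  · exact (dots_fixed h0 (pnt j 0) 0).trans ha
  · exact (dots_fixed h0 (pnt j 0) 1).trans hb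

theorem imageB {g : Co0} (h0 : Fixed g 0) {j : Fin 12} (h4 : 4 ≤ j.val) :
    encV ((g • pnt j 0 : leechLattice) : Vec) ∈ candB.flatten := by
  have h := List.all_eq_true.1 prodB j (List.mem_range.2 j.2)
  simp only [Bool.or_eq_true, Bool.and_eq_true, decide_eq_true_eq] at h
  rcases h with h | ⟨ha, hb⟩
  · have h' : j.val < 4 := Nat.le_of_ble_eq_true h
    omega
  refine mem_candB (mem_shortList (fits_of_chk specB_ok) (g • pnt j 0).2 ((co_norm g _).trans (pnt_norm j 0))
    (dot_comb _ fun bc hbc => ?_))
  simp only [condB, List.mem_cons, List.not_mem_nil, or_false] at hbc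
  rcases hbc with rfl | rfl
  · exact (dots_fixed h0 (pnt j 0) 0).trans ha
  · exact (dots_fixed h0 (pnt j 0) 1).trans hb

theorem ncard_le_enc {s : Set leechLattice} (L : List ℕ) (hn : ∀ x ∈ s, sqNorm (x : Vec) = 32)
    (h : ∀ x ∈ s, encV (x : Vec) ∈ L) : s.ncard ≤ L.length := by
  classical
  refine (Set.ncard_le_ncard_of_injOn (fun x : leechLattice => encV (x : Vec))
    (t := (L.toFinset : Set ℕ)) (fun x hx => by simpa using h x hx) ?_ (Finset.finite_toSet _)).trans ?_
  · intro x hx y hy e
    exact Subtype.ext (encV_inj (small_of_norm (by rw [hn x hx]; norm_num))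
      (small_of_norm (by rw [hn y hy]; norm_num)) e)
  · rw [Set.ncard_coe_finset]
    exact List.toFinset_card_le _

theorem card_le_step {H α : Type*} [Group H] [Finite H] [MulAction H α] (x : α) {m n : ℕ}
    (ho : (MulAction.orbit H x).ncard ≤ m) (hs : Nat.card (MulAction.stabilizer H x) ≤ n) : Nat.card H ≤ m * n := by
  rw [← Subgroup.card_mul_index (MulAction.stabilizer H x), MulAction.index_stabilizer, mul_comm]
  exact Nat.mul_le_mul ho hs

variable {C : Subgroup Co0} {a : Co0}

/-- The bound on the centraliser. -/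
theorem card_le [Finite Co0] (hc : ∀ g ∈ C, a * g = g * a) (ha : ∀ j, a • pnt j 0 = pnt j 1) :
    Nat.card C ≤ 196560 * (891 * (256 * (60 * 1))) := by
  have fx : ∀ {g : Co0}, g ∈ C → ∀ {j}, g • pnt j 0 = pnt j 0 → Fixed g j := fun {g} hg {j} h i => by
    fin_cases i
    · exact h
    · show g • pnt j 1 = pnt j 1
      rw [← ha, ← mul_smul, ← hc g hg, mul_smul, h]
  have hnorm : ∀ (g : Co0) (j : Fin 12), sqNorm ((g • pnt j 0 : leechLattice) : Vec) = 32 := fun g j =>
    (co_norm g _).trans (pnt_norm j 0)
  refine card_le_step (pnt 0 0) ?_ (card_le_step (pnt 1 0) ?_ (card_le_step (pnt 2 0) ?_ (card_le_step (pnt 3 0) ?_ ?_)))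
  · rw [← CrossMaximal.ncard_shell]
    refine Set.ncard_le_ncard ?_ (Set.finite_of_ncard_ne_zero (by rw [CrossMaximal.ncard_shell]; norm_num))
    rintro _ ⟨g, rfl⟩
    exact hnorm g 0
  · rw [← lenA]
    refine ncard_le_enc _ ?_ ?_ <;> rintro _ ⟨g, rfl⟩
    · exact hnorm _ 1
    · exact imageA (fx g.1.2 g.2) le_rfl (by decide)
  · rw [← lenA2]
    refine ncard_le_enc _ ?_ ?_ <;> rintro _ ⟨g, rfl⟩
    · exact hnorm _ 2
    · exact List.mem_filter.2 ⟨imageA (fx g.1.1.2 g.1.2) (by decide) (by decide),
        agree_of_fixed (k := 1) (j := 2) (fx g.1.1.2 g.2)⟩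
  · rw [← lenA3]
    refine ncard_le_enc _ ?_ ?_ <;> rintro _ ⟨g, rfl⟩
    · exact hnorm _ 3
    · refine List.mem_filter.2 ⟨imageA (fx g.1.1.1.2 g.1.1.2) (by decide) (by decide), ?_⟩
      rw [Bool.and_eq_true]
      exact ⟨agree_of_fixed (k := 1) (j := 3) (fx g.1.1.1.2 g.1.2), agree_of_fixed (k := 2) (j := 3) (fx g.1.1.1.2 g.2)⟩
  · refine le_of_eq (Subgroup.card_eq_one.2 ((Subgroup.eq_bot_iff_forall _).2 fun g hg => ?_))
    have hC : (g.1.1.1 : Co0) ∈ C := g.1.1.1.2
    have hall : ∀ (n : ℕ) (j : Fin 12), j.val = n → Fixed (g.1.1.1 : Co0) j := by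
      intro n
      induction n using Nat.strong_induction_on with
      | _ n ih =>
        intro j hj
        by_cases h4 : 4 ≤ j.val
        · refine fx hC (Subtype.ext (encV_inj (small_of_norm (by rw [hnorm]; norm_num)) (pnt_small j 0) ?_))
          rw [encV_pnt]
          have h0 : Fixed (g.1.1.1 : Co0) 0 := ih 0 (by omega) 0 rfl
          have hm : encV (((g.1.1.1 : Co0) • pnt j 0 : leechLattice) : Vec) ∈ [oe j 0] := by
            rw [← beq_iff_eq.1 (left_all j h4)]
            refine List.mem_filter.2 ⟨imageB h0 h4, List.all_eq_true.2 fun k hk => ?_⟩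
            have hk' := List.mem_range.1 hk
            rw [Bool.or_eq_true]
            exact Or.inr (agree_of_fixed (k := ⟨k, by omega⟩) (ih k (by omega) ⟨k, by omega⟩ rfl))
          exact List.mem_singleton.1 hm
        · obtain h | h | h | h : j = 0 ∨ j = 1 ∨ j = 2 ∨ j = 3 := by omega
          · subst h; exact fx hC g.1.1.2
          · subst h; exact fx hC g.1.2
          · subst h; exact fx hC g.2
          · subst h; exact fx hC hg
    exact Subtype.ext (Subtype.ext (Subtype.ext (Subtype.ext
      (eq_one_of_fix fun j i => hall j.val j rfl i))))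

end Cfsg.Agent.Spor.CoSuz

end
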