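import Cfsg.Agent.Lib.Spor.CoSuz.Elems
import Cfsg.Agent.Lib.Spor.CoSuz.Bound

/-!
Bounds for the members of the centraliser of the element of order three that also keep the octad.
-/

set_option autoImplicit false
set_option maxRecDepth 100000

noncomputable section

namespace Cfsg.Agent.Spor.CoSuz

open Cfsg Matrix Cfsg.Agent.Spor.Leech Cfsg.Agent.Fus
open Cfsg.Agent.Classical.OrthAut (ogVal ogVal_mul ogVal_one ogVal_ext ogVal_quad)
open Cfsg.Agent.Classical.OmegaEightTwo (O0 QQ)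

/-- The members keeping the octad. -/
def HH : Subgroup Co0 := Co1Centre.Cs ⊓ CA

theorem a_mem_Cs : aC ∈ Co1Centre.Cs := mem_Cs_of hasT_a (by decide +kernel)

theorem a_mem_HH : aC ∈ HH := ⟨a_mem_Cs, mem_CA.2 rfl⟩

/-- The action on the reduced octad lattice. -/
def PhiH : HH →* O0 := Co1Centre.Phi.comp (Subgroup.inclusion (inf_le_left : HH ≤ Co1Centre.Cs))

/-- A chosen root or its image. -/
def rootX (j : ℕ) : Vec := decV (rootO.getD j 0)

theorem root_chk : ((List.range 8).all fun j => inL (rootX j) && decide (sqNorm (rootX j) = 32) &&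
    decide (∀ i ∉ Co1Centre.Om, rootX j i = 0)) = true := by decide +kernel

theorem root_spec (j : Fin 8) : inL (rootX j) = true ∧ sqNorm (rootX j) = 32 ∧ ∀ i ∉ Co1Centre.Om, rootX j i = 0 := by
  have h := List.all_eq_true.1 root_chk j (List.mem_range.2 j.2)
  rw [Bool.and_eq_true, Bool.and_eq_true, decide_eq_true_eq, decide_eq_true_eq] at h
  exact ⟨h.1.1, h.1.2, h.2⟩

/-- The chosen roots. -/
def rootV (j : Fin 8) : leechLattice := ⟨rootX j, mem_of_inL (root_spec j).1⟩

theorem rootV_mem (j : Fin 8) : rootV j ∈ Co1Centre.Lm := Co1Centre.mem_Lm.2 (root_spec j).2.2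

/-- Their reductions. -/
def rb (j : ℕ) : Co1Centre.V := Co1Centre.redL (rootX j)

theorem red_rootV (j : Fin 8) : Co1Centre.red (rootV j : Vec) = rb j := Co1Centre.red_eq_redL _

theorem a_root (k : Fin 4) : aC • rootV ⟨2 * k.val, by omega⟩ = rootV ⟨2 * k.val + 1, by omega⟩ := by
  have h : ((List.range 4).all fun k => colP aT (rootO.getD (2 * k) 0) == rootO.getD (2 * k + 1) 0 &&
      encV (rootX (2 * k)) == rootO.getD (2 * k) 0 && encV (rootX (2 * k + 1)) == rootO.getD (2 * k + 1) 0) = true := by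
    decide +kernel
  have h1 := List.all_eq_true.1 h k.val (List.mem_range.2 k.2)
  simp only [Bool.and_eq_true, beq_iff_eq] at h1
  have hn : ∀ j : Fin 8, sqNorm (rootV j : Vec) ≤ 64 := fun j => by
    show sqNorm (rootX j) ≤ 64
    rw [(root_spec j).2.1]; norm_num
  refine Subtype.ext (encV_inj (small_of_norm ((co_norm _ _).trans_le (hn _))) (small_of_norm (hn _)) ?_)
  rw [← hasT_a.app (hn _)]
  show colP aT (encV (rootX (2 * k.val))) = encV (rootX (2 * k.val + 1))
  rw [h1.1.2, h1.2, h1.1.1]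

/-- The image of the element of order three. -/
def aO : O0 := PhiH ⟨aC, a_mem_HH⟩

theorem aO_rb (k : Fin 4) : ogVal aO *ᵥ rb (2 * k.val) = rb (2 * k.val + 1) := by
  rw [← red_rootV ⟨2 * k.val, by omega⟩, ← red_rootV ⟨2 * k.val + 1, by omega⟩, ← a_root k]
  show Co1Centre.mat _ *ᵥ _ = _
  rw [← Co1Centre.red_smul _ (rootV_mem _)]
  rfl

theorem rb_ne : rb 1 ≠ rb 0 := by decide +kernel

theorem aO_ne : aO ≠ 1 := fun e => rb_ne (by
  have h := aO_rb 0
  rw [e, ogVal_one, Matrix.one_mulVec] at h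
  exact h.symm)

/-- The polar form. -/
def pol (v w : Co1Centre.V) : ZMod 2 :=
  quadFormPlus 4 (ZMod 2) (v + w) + quadFormPlus 4 (ZMod 2) v + quadFormPlus 4 (ZMod 2) w

/-- The possible images of the first vector of a pair. -/
def candV (j : ℕ) : Finset Co1Centre.V :=
  Finset.univ.filter fun w => quadFormPlus 4 (ZMod 2) w = quadFormPlus 4 (ZMod 2) (rb (2 * j)) ∧
    ∀ k : Fin 4, k.val < j → pol (rb (2 * k.val)) w = pol (rb (2 * k.val)) (rb (2 * j)) ∧
      pol (rb (2 * k.val + 1)) w = pol (rb (2 * k.val + 1)) (rb (2 * j))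

theorem card_candV : (candV 0).card = 120 ∧ (candV 1).card = 36 ∧ (candV 2).card = 6 ∧ (candV 3).card = 3 := by
  decide +kernel

theorem coords_ok : ∀ i : Fin 4 ⊕ Fin 4, (Pi.single i 1 : Co1Centre.V) =
    ∑ k : Fin 8, if (rootCo.getD (Co1Centre.pos i) 0).testBit k then rb k else 0 := by
  decide +kernel

/-- The action on the reduced lattice. -/
@[reducible] def actV : MulAction O0 Co1Centre.V where
  smul g v := ogVal g *ᵥ v
  one_smul v := by show ogVal (1 : O0) *ᵥ v = v; rw [ogVal_one, Matrix.one_mulVec]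
  mul_smul g h v := by
    show ogVal (g * h) *ᵥ v = ogVal g *ᵥ (ogVal h *ᵥ v)
    rw [ogVal_mul, Matrix.mulVec_mulVec]

theorem qq_img (g : O0) (v : Co1Centre.V) :
    quadFormPlus 4 (ZMod 2) (ogVal g *ᵥ v) = quadFormPlus 4 (ZMod 2) v := by
  have h := ogVal_quad g v
  rwa [Classical.coe_qfPlus] at h

/-- The image commutes with that of the element of order three. -/
theorem card_image_le : Nat.card PhiH.range ≤ 120 * (36 * (6 * (3 * 1))) := by
  letI := actV
  have hcomm : ∀ g ∈ PhiH.range, g * aO = aO * g := by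
    rintro _ ⟨h, rfl⟩
    rw [aO, ← map_mul, ← map_mul]
    exact congrArg PhiH (Subtype.ext (mem_CA.1 h.2.2))
  have fx : ∀ {g : O0}, g ∈ PhiH.range → ∀ {k : Fin 4}, ogVal g *ᵥ rb (2 * k.val) = rb (2 * k.val) →
      ogVal g *ᵥ rb (2 * k.val + 1) = rb (2 * k.val + 1) := fun {g} hg {k} h => by
    rw [← aO_rb k, Matrix.mulVec_mulVec, ← ogVal_mul, hcomm g hg, ogVal_mul, ← Matrix.mulVec_mulVec, h]
  have cand : ∀ {g : O0}, g ∈ PhiH.range → ∀ (j : ℕ),
      (∀ k : Fin 4, k.val < j → ogVal g *ᵥ rb (2 * k.val) = rb (2 * k.val)) →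
      ogVal g *ᵥ rb (2 * j) ∈ candV j := fun {g} hg j hf => by
    refine Finset.mem_filter.2 ⟨Finset.mem_univ _, qq_img g _, fun k hk => ?_⟩
    have hp : ∀ u, ogVal g *ᵥ u = u → pol u (ogVal g *ᵥ rb (2 * j)) = pol u (rb (2 * j)) := fun u hu => by
      conv_lhs => arg 1; rw [← hu]
      rw [pol, pol, ← Matrix.mulVec_add, qq_img, qq_img, qq_img]
    exact ⟨hp _ (hf k hk), hp _ (fx hg (hf k hk))⟩
  obtain ⟨c0, c1, c2, c3⟩ := card_candV
  have bound : ∀ {s : Set Co1Centre.V} (j : ℕ), s ⊆ (candV j : Set Co1Centre.V) → s.ncard ≤ (candV j).card :=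
    fun {s} j h => (Set.ncard_le_ncard h (Finset.finite_toSet _)).trans (le_of_eq (Set.ncard_coe_finset _))
  refine card_le_step (rb (2 * 0)) ?_ (card_le_step (rb (2 * 1)) ?_ (card_le_step (rb (2 * 2)) ?_
    (card_le_step (rb (2 * 3)) ?_ ?_)))
  · refine (bound 0 ?_).trans c0.le
    rintro _ ⟨g, rfl⟩
    exact cand g.2 0 fun k hk => absurd hk (Nat.not_lt_zero _)
  · refine (bound 1 ?_).trans c1.le
    rintro _ ⟨g, rfl⟩
    refine cand g.1.2 1 fun k hk => ?_
    obtain rfl : k = 0 := by omega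
    exact g.2
  · refine (bound 2 ?_).trans c2.le
    rintro _ ⟨g, rfl⟩
    refine cand g.1.1.2 2 fun k hk => ?_
    obtain rfl | rfl : k = 0 ∨ k = 1 := by omega
    exacts [g.1.2, g.2]
  · refine (bound 3 ?_).trans c3.le
    rintro _ ⟨g, rfl⟩
    refine cand g.1.1.1.2 3 fun k hk => ?_
    obtain rfl | rfl | rfl : k = 0 ∨ k = 1 ∨ k = 2 := by omega
    exacts [g.1.1.2, g.1.2, g.2]
  · refine le_of_eq (Subgroup.card_eq_one.2 ((Subgroup.eq_bot_iff_forall _).2 fun g hg => ?_))
    set h : O0 := g.1.1.1.1 with hh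
    have hk : ∀ k : Fin 4, ogVal h *ᵥ rb (2 * k.val) = rb (2 * k.val) := fun k => by
      obtain rfl | rfl | rfl | rfl : k = 0 ∨ k = 1 ∨ k = 2 ∨ k = 3 := by omega
      exacts [g.1.1.2, g.1.2, g.2, hg]
    have hall : ∀ j : Fin 8, ogVal h *ᵥ rb j = rb j := fun j => by
      obtain ⟨k, hj | hj⟩ : ∃ k : Fin 4, j.val = 2 * k.val ∨ j.val = 2 * k.val + 1 :=
        ⟨⟨j.val / 2, by omega⟩, by simp only; omega⟩
      · rw [hj]; exact hk k
      · rw [hj]; exact fx g.1.1.1.2 (hk k)
    have h1 : h = 1 := ogVal_ext (Matrix.ext_of_mulVec_single fun i => by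
      rw [ogVal_one, Matrix.one_mulVec, coords_ok i, Matrix.mulVec_sum]
      exact Finset.sum_congr rfl fun k _ => by split_ifs <;> simp [hall])
    exact Subtype.ext (Subtype.ext (Subtype.ext (Subtype.ext h1)))

/-- A listed member of the kernel outside the centraliser. -/
theorem out_chk : (outX.all fun T => chkCs T && chkKer T) = true ∧ outX.length = 2 ∧
    ((outX.all fun T => mulP T T == oneP && !chkComm T) &&
      !chkComm (mulP (outX.getD 0 []) (outX.getD 1 []))) = true := by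
  decide +kernel

theorem getD_mem_out {i : ℕ} (hi : i < 2) : outX.getD i [] ∈ outX := by
  rw [List.getD_eq_getElem _ _ (by rw [out_chk.2.1]; exact hi)]
  exact List.getElem_mem _

/-- The listed members. -/
def outC (i : ℕ) : Co0 := ofT (outX.getD i [])

theorem hasT_out {i : ℕ} (hi : i < 2) : HasT (outC i) (outX.getD i []) :=
  hasT_ofT (List.all_eq_true.1 chk_out _ (getD_mem_out hi))

theorem not_comm {g : Co0} {T : List ℕ} (hg : HasT g T) (h : chkComm T = false) : g ∉ CA := fun hc => by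
  have e1 := hg.mul hasT_a
  have e2 := hasT_a.mul hg
  rw [mem_CA.1 hc] at e1
  have hl : mulP T aT = mulP aT T := List.ext_getElem (e1.len.trans e2.len.symm) fun i hi _ => by
    have hi' : i < 24 := e1.len ▸ hi
    have := (e1.img (Golay.pt i)).trans (e2.img (Golay.pt i)).symm
    rw [Golay.idx_pt hi'] at this
    rwa [List.getD_eq_getElem, List.getD_eq_getElem] at this
  simp [chkComm, hl] at h

theorem index_ge_three {G : Type*} [Group G] [Finite G] (N : Subgroup G) {x y : G} (hx : x ∉ N) (hy : y ∉ N)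
    (hxy : x⁻¹ * y ∉ N) : 3 ≤ N.index := by
  classical
  have h1 : (QuotientGroup.mk (1 : G) : G ⧸ N) ≠ QuotientGroup.mk x := fun e => hx (by simpa using QuotientGroup.eq.1 e)
  have h2 : (QuotientGroup.mk (1 : G) : G ⧸ N) ≠ QuotientGroup.mk y := fun e => hy (by simpa using QuotientGroup.eq.1 e)
  have h3 : (QuotientGroup.mk x : G ⧸ N) ≠ QuotientGroup.mk y := fun e => hxy (QuotientGroup.eq.1 e)
  have h := Set.ncard_le_ncard (Set.subset_univ ({QuotientGroup.mk (1 : G), QuotientGroup.mk x, QuotientGroup.mk y} :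
    Set (G ⧸ N))) (Set.toFinite _)
  rwa [Set.ncard_univ, Set.ncard_eq_toFinset_card', Finset.card_eq_three.2 ⟨_, _, _, h1, h2, h3, by simp⟩,
    ← Subgroup.index_eq_card] at h

theorem card_ker_le : Nat.card PhiH.ker ≤ 256 := by
  let N : Subgroup Co1Centre.Phi.ker := CA.comap ((Co1Centre.Cs.subtype).comp Co1Centre.Phi.ker.subtype)
  have hle : Nat.card PhiH.ker ≤ Nat.card N := by
    refine Nat.card_le_card_of_injective (fun g => (⟨⟨⟨g.1.1, g.1.2.1⟩, g.2⟩, g.1.2.2⟩ : N)) fun g h e => ?_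
    exact Subtype.ext (Subtype.ext (congrArg (fun x : N => ((x.1.1 : Co1Centre.Cs) : Co0)) e))
  obtain ⟨h1, -, h3⟩ := out_chk
  simp only [List.all_eq_true, Bool.and_eq_true, Bool.not_eq_true', beq_iff_eq] at h1 h3
  let k : Fin 2 → Co1Centre.Phi.ker := fun i =>
    ⟨⟨outC i, mem_Cs_of (hasT_out i.2) (h1 _ (getD_mem_out i.2)).1⟩,
      mem_ker_of (hasT_out i.2) (h1 _ (getD_mem_out i.2)).2⟩
  have hinv : ∀ i, (k i)⁻¹ = k i := fun i => inv_eq_of_mul_eq_one_right (Subtype.ext (Subtype.ext (by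
    have e := (hasT_out i.2).mul (hasT_out i.2)
    rw [(h3.1 _ (getD_mem_out i.2)).1] at e
    exact e.eq hasT_one)))
  have hk : ∀ i, k i ∉ N := fun i => not_comm (hasT_out i.2) (h3.1 _ (getD_mem_out i.2)).2
  have h01 : k 0 * k 1 ∉ N := not_comm ((hasT_out (i := 0) (by norm_num)).mul (hasT_out (i := 1) (by norm_num))) h3.2
  have h4 : 3 ≤ N.index := index_ge_three N (hk 0) (hk 1) (by rw [hinv]; exact h01)
  have h5 := N.card_mul_index
  rw [Co1Centre.card_ker] at h5
  have h6 : N.index ∣ 1024 := Dvd.intro_left _ h5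
  obtain ⟨n, hn, hn'⟩ := (Nat.dvd_prime_pow Nat.prime_two (m := 10)).1 h6
  have h7 : 4 ≤ N.index := by
    rw [hn'] at h4 ⊢
    match n, h4 with
    | 0, h => simp at h
    | 1, h => simp at h
    | n + 2, _ => exact (Nat.pow_le_pow_right (by norm_num) (by omega : 2 ≤ n + 2)).trans' (by norm_num)
  refine hle.trans ?_
  have : Nat.card N * 4 ≤ 1024 := le_of_le_of_eq (Nat.mul_le_mul_left _ h7) h5
  omega

/-- The bound. -/
theorem card_HH_le : Nat.card HH ≤ 77760 * 256 := by
  rw [← PhiH.ker.card_mul_index, Subgroup.index_ker, mul_comm]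
  exact Nat.mul_le_mul card_image_le card_ker_le

end Cfsg.Agent.Spor.CoSuz

end
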