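import Cfsg.Agent.Lib.Spor.CoSuz.Quot

/-!
The image is the derived group of the orthogonal group of minus type in dimension six.
-/

set_option autoImplicit false
set_option maxRecDepth 100000

noncomputable section

namespace Cfsg.Agent.Spor.CoSuz

open Cfsg Matrix Cfsg.Agent.Spor.Leech Cfsg.Agent.Fus
open Cfsg.Agent.Classical Cfsg.Agent.Classical.OrthAut
open Cfsg.Agent.Block.FischerTypes.Twin (I6 bitOf qvec qvec_surj qvec_xor qvec_zero)
open scoped commutatorElement

/-- A transvection on vectors. -/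
def rv (w v : V6) : V6 := v + B6 w v • w

theorem polar_eq (v w : V6) : QuadraticMap.polar ⇑QM v w = B6 v w := by
  rw [QuadraticMap.polar, qm_eq, qm_eq, qm_eq, q_add]
  ring

/-- The transvection of a vector. -/
def rf (w : V6) : OM6 := if h : QM w ≠ 0 then refl h else 1

theorem rf_apply {w : V6} (hw : quadFormMinus 2 (ZMod 2) 1 1 w = 1) (v : V6) : ogVal (rf w) *ᵥ v = rv w v := by
  have h : QM w ≠ 0 := by rw [qm_eq, hw]; exact one_ne_zero
  rw [rf, dif_pos h, refl_apply, qm_eq, hw, polar_eq, inv_one, one_mul, rv]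
  funext i
  simp only [Pi.sub_apply, Pi.add_apply, sub_eq_add_neg, ZMod.neg_eq_self_mod_two]

theorem rf_sq {w : V6} (hw : quadFormMinus 2 (ZMod 2) 1 1 w = 1) : rf w * rf w = 1 := by
  have h : QM w ≠ 0 := by rw [qm_eq, hw]; exact one_ne_zero
  rw [rf, dif_pos h, refl_mul_self]

/-- The six generating transvections. -/
def gsN : List ℕ := [40, 35, 31, 5, 56, 13]

/-- The vector of a generating transvection. -/
def gv (i : ℕ) : V6 := qvec (gsN.getD i 40)

theorem gv_q : ∀ i < 6, quadFormMinus 2 (ZMod 2) 1 1 (gv i) = 1 := by decide +kernel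

/-- The vectors reached. -/
def reachL : List (ℕ × ℕ) → List V6 → List V6
  | [], L => L
  | (i, u) :: T, L => reachL T (L ++ [rv (gv i) (L.getD u (gv 0))])

theorem tree_ok : (refTree.all fun s => decide (s.1 < 6)) = true ∧
    ∀ v : V6, quadFormMinus 2 (ZMod 2) 1 1 v = 1 → v ∈ reachL refTree ((List.range 6).map gv) := by
  decide +kernel

/-- The group of the six transvections. -/
def G6 : Subgroup OM6 := Subgroup.closure {g | ∃ i < 6, g = rf (gv i)}

theorem rf_gen {i : ℕ} (hi : i < 6) : rf (gv i) ∈ G6 := Subgroup.subset_closure ⟨i, hi, rfl⟩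

theorem reach_mem : ∀ (T : List (ℕ × ℕ)) (L : List V6), (∀ s ∈ T, s.1 < 6) →
    (∀ v ∈ L, quadFormMinus 2 (ZMod 2) 1 1 v = 1 ∧ rf v ∈ G6) →
    ∀ v ∈ reachL T L, quadFormMinus 2 (ZMod 2) 1 1 v = 1 ∧ rf v ∈ G6
  | [], _, _, hL => hL
  | (i, u) :: T, L, hT, hL => by
    refine reach_mem T _ (fun s hs => hT s (List.mem_cons_of_mem _ hs)) fun v hv => ?_
    rcases List.mem_append.1 hv with hv | hv
    · exact hL v hv
    obtain rfl := List.mem_singleton.1 hv
    have hi : i < 6 := hT (i, u) List.mem_cons_self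
    obtain ⟨hq, hm⟩ : quadFormMinus 2 (ZMod 2) 1 1 (L.getD u (gv 0)) = 1 ∧ rf (L.getD u (gv 0)) ∈ G6 := by
      rcases lt_or_ge u L.length with h | h
      · rw [List.getD_eq_getElem _ _ h]; exact hL _ (List.getElem_mem h)
      · rw [List.getD_eq_default _ _ h]; exact ⟨gv_q 0 (by norm_num), rf_gen (by norm_num)⟩
    set w := L.getD u (gv 0)
    have hq' : quadFormMinus 2 (ZMod 2) 1 1 (rv (gv i) w) = 1 := by
      rw [← rf_apply (gv_q i hi), ← qm_eq, ogVal_quad, qm_eq, hq]
    refine ⟨hq', ?_⟩
    have h1 : QM w ≠ 0 := by rw [qm_eq, hq]; exact one_ne_zero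
    have h2 : QM (ogVal (rf (gv i)) *ᵥ w) ≠ 0 := by rw [ogVal_quad]; exact h1
    have e : rf (gv i) * rf w * (rf (gv i))⁻¹ = rf (rv (gv i) w) := by
      have h3 : QM (rv (gv i) w) ≠ 0 := by rw [qm_eq, hq']; exact one_ne_zero
      rw [show rf w = refl h1 from dif_pos h1, refl_conj _ h1 h2, show rf (rv (gv i) w) = refl h3 from dif_pos h3]
      exact refl_congr _ _ (c := 1) (by rw [one_smul, rf_apply (gv_q i hi)])
    rw [← e]
    exact mul_mem (mul_mem (rf_gen hi) hm) (inv_mem (rf_gen hi))

theorem G6_top : G6 = ⊤ := by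
  have hgen : reflGroup QM = ⊤ :=
    reflGroup_eq_top_gen (nondegenerate_qfMinus 2 (by decide)) (genQ_of_card (Or.inr (by simp)))
  refine top_le_iff.1 (hgen ▸ (Subgroup.closure_le _).2 ?_)
  rintro _ ⟨v, hv, rfl⟩
  have hq : quadFormMinus 2 (ZMod 2) 1 1 v = 1 := by
    rcases zmod2 (quadFormMinus 2 (ZMod 2) 1 1 v) with h | h
    · exact absurd ((qm_eq v).trans h) hv
    · exact h
  obtain ⟨ht, hall⟩ := tree_ok
  simp only [List.all_eq_true, decide_eq_true_eq] at ht
  have := (reach_mem refTree ((List.range 6).map gv) ht (fun w hw => by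
    obtain ⟨i, hi, rfl⟩ := List.mem_map.1 hw
    rw [List.mem_range] at hi
    exact ⟨gv_q i hi, rf_gen hi⟩) v (hall v hq)).2
  rwa [show rf v = refl hv from dif_pos hv] at this

/-- A pair member. -/
def hC (i : ℕ) : Co0 := ofT (pairT.getD i [])

/-- The product of chosen members with given bits. -/
def wordK : List I6 → V6 → K0
  | [], _ => 1
  | p :: L, v => (if v p = 1 then xK p else 1) * wordK L v

/-- Its rows. -/
def wordP : List I6 → V6 → List ℕ
  | [], _ => oneP
  | p :: L, v => mulP (if v p = 1 then baseX.getD (bitOf p) [] else oneP) (wordP L v)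

theorem hasT_word : ∀ (L : List I6) (v : V6), HasT (wordK L v : Co0) (wordP L v)
  | [], _ => hasT_one
  | p :: L, v => by
    rw [wordK, wordP, Subgroup.coe_mul]
    refine HasT.mul ?_ (hasT_word L v)
    split_ifs
    · exact hasT_x (bitOf_lt p)
    · exact hasT_one

theorem iota_word : ∀ (L : List I6) (v : V6), iota (wordK L v) =
    fun q => (L.map fun p => if q = p then v p else 0).sum
  | [], _ => by rw [wordK, iota_one]; rfl
  | p :: L, v => by
    rw [wordK, iota_mul, iota_word L v]
    funext q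
    rcases zmod2 (v p) with h | h
    · rw [if_neg (by rw [h]; exact zero_ne_one), iota_one]; simp [h]
    · rw [if_pos h, iota_x]; simp [h]

/-- All indices. -/
def allI : List I6 := [.inl (.inl 0), .inl (.inl 1), .inl (.inr 0), .inl (.inr 1), .inr 0, .inr 1]

theorem all_sum : ∀ v : V6, (fun q => (allI.map fun p => if q = p then v p else 0).sum) = v := by decide +kernel

/-- The wanted image of a basis vector. -/
def tgt (i : ℕ) (p : I6) : V6 := rv (gv (i + 1)) (rv (gv 0) (fun q => if q = p then 1 else 0))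

/-- The four central members. -/
def fourP : List (List ℕ) := [oneP, oneP.map negX, eP, eCP]

theorem pair_chk : ∀ i < 5, (chkComm (pairT.getD i []) && chkCs (pairT.getD i [])) = true := by decide +kernel

theorem conj_chk0 : ∀ p : I6, (fourP.any fun c => mulP (pairT.getD 0 []) (baseX.getD (bitOf p) []) ==
    mulP (mulP c (wordP allI (tgt 0 p))) (pairT.getD 0 [])) = true := by decide +kernel
theorem conj_chk1 : ∀ p : I6, (fourP.any fun c => mulP (pairT.getD 1 []) (baseX.getD (bitOf p) []) ==
    mulP (mulP c (wordP allI (tgt 1 p))) (pairT.getD 1 [])) = true := by decide +kernel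
theorem conj_chk2 : ∀ p : I6, (fourP.any fun c => mulP (pairT.getD 2 []) (baseX.getD (bitOf p) []) ==
    mulP (mulP c (wordP allI (tgt 2 p))) (pairT.getD 2 [])) = true := by decide +kernel
theorem conj_chk3 : ∀ p : I6, (fourP.any fun c => mulP (pairT.getD 3 []) (baseX.getD (bitOf p) []) ==
    mulP (mulP c (wordP allI (tgt 3 p))) (pairT.getD 3 [])) = true := by decide +kernel
theorem conj_chk4 : ∀ p : I6, (fourP.any fun c => mulP (pairT.getD 4 []) (baseX.getD (bitOf p) []) ==
    mulP (mulP c (wordP allI (tgt 4 p))) (pairT.getD 4 [])) = true := by decide +kernel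

theorem pair_in {i : ℕ} (hi : i < 5) : rf (gv (i + 1)) * rf (gv 0) ∈ theta.range := by
  have hlen : pairT.length = 5 := by decide +kernel
  have hT : HasT (hC i) (pairT.getD i []) := hasT_ofT (List.all_eq_true.1 chk_pair _ (by
    rw [List.getD_eq_getElem _ _ (hlen ▸ hi)]; exact List.getElem_mem _))
  have hc := pair_chk i hi
  rw [Bool.and_eq_true] at hc
  have hm : hC i ∈ HH := ⟨mem_Cs_of hT hc.2, mem_CA_of hT hc.1⟩
  have hconj : ∀ p : I6, (fourP.any fun c => mulP (pairT.getD i []) (baseX.getD (bitOf p) []) ==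
      mulP (mulP c (wordP allI (tgt i p))) (pairT.getD i [])) = true := by
    interval_cases i
    exacts [conj_chk0, conj_chk1, conj_chk2, conj_chk3, conj_chk4]
  refine ⟨toHH (hC i) hm, ogVal_ext (Matrix.ext_of_mulVec_single fun p => ?_)⟩
  have hsingle : (Pi.single p 1 : V6) = fun q => if q = p then 1 else 0 := funext fun q => Pi.single_apply ..
  rw [ogVal_mul, ← Matrix.mulVec_mulVec, rf_apply (gv_q 0 (by norm_num)), rf_apply (gv_q (i + 1) (by omega)),
    hsingle, ← iota_x, theta_apply]
  obtain ⟨c, hcm, he⟩ := List.any_eq_true.1 (hconj p)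
  obtain ⟨d, hd, hdT, hdc⟩ : ∃ d, ∃ hd : d ∈ K0, HasT d c ∧ iota ⟨d, hd⟩ = 0 := by
    have hn : negCo ∈ K0 := Subgroup.subset_closure (Or.inl (Or.inl rfl))
    have heO : Co1Centre.eO ∈ K0 := Subgroup.subset_closure (Or.inl (Or.inr rfl))
    simp only [fourP, List.mem_cons, List.not_mem_nil, or_false] at hcm
    rcases hcm with rfl | rfl | rfl | rfl
    · exact ⟨1, one_mem _, hasT_one, iota_one⟩
    · refine ⟨negCo, hn, ?_, iota_central (Or.inl rfl)⟩
      have := hasT_one.neg
      rwa [mul_one] at this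
    · exact ⟨_, heO, hasT_eO, iota_central (Or.inr rfl)⟩
    · refine ⟨_, mul_mem hn heO, hasT_eC, ?_⟩
      show iota ((⟨negCo, hn⟩ : K0) * ⟨Co1Centre.eO, heO⟩) = 0
      rw [iota_mul, iota_central (Or.inl rfl), iota_central (Or.inr rfl), add_zero]
  have e1 : hC i * xC (bitOf p) = d * (wordK allI (tgt i p) : Co0) * hC i := by
    have h1 := hT.mul (hasT_x (bitOf_lt p))
    rw [beq_iff_eq.1 he] at h1
    exact h1.eq ((hdT.mul (hasT_word _ _)).mul hT)
  have e2 : conjK (toHH (hC i) hm) (xK p) = ⟨d, hd⟩ * wordK allI (tgt i p) := Subtype.ext (by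
    show hC i * xC (bitOf p) * (hC i)⁻¹ = d * (wordK allI (tgt i p) : Co0)
    rw [e1, mul_inv_cancel_right])
  rw [e2, iota_mul, hdc, zero_add, iota_word, all_sum, tgt, iota_x]

theorem omega_le_range : commutator OM6 ≤ theta.range := by
  set H := Subgroup.closure {g : OM6 | ∃ i < 5, g = rf (gv (i + 1)) * rf (gv 0)} with hH
  refine le_trans ?_ ((Subgroup.closure_le _).2 (by rintro _ ⟨i, hi, rfl⟩; exact pair_in hi) : H ≤ theta.range)
  set t := rf (gv 0) with ht
  have htt : t * t = 1 := rf_sq (gv_q 0 (by norm_num))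
  have hti : t⁻¹ = t := inv_eq_of_mul_eq_one_right htt
  have hgi : ∀ {i : ℕ}, i < 6 → rf (gv i) * t ∈ H := by
    intro i hi
    rcases i with _ | i
    · rw [← ht, htt]; exact one_mem _
    · exact Subgroup.subset_closure ⟨i, by omega, rfl⟩
  have hconj : ∀ x ∈ H, t * x * t⁻¹ ∈ H := by
    intro x hx
    induction hx using Subgroup.closure_induction with
    | mem x hx =>
      obtain ⟨i, hi, rfl⟩ := hx
      have e : t * (rf (gv (i + 1)) * rf (gv 0)) * t⁻¹ = (rf (gv (i + 1)) * t)⁻¹ := by
        rw [← ht, _root_.mul_inv_rev, hti, inv_eq_of_mul_eq_one_right (rf_sq (gv_q (i + 1) (by omega)))]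
        rw [mul_assoc, mul_assoc, htt, mul_one]
      rw [e]; exact inv_mem (hgi (by omega))
    | one => simp
    | mul x y _ _ ix iy =>
      rw [show t * (x * y) * t⁻¹ = (t * x * t⁻¹) * (t * y * t⁻¹) by group]
      exact mul_mem ix iy
    | inv x _ ix =>
      rw [show t * x⁻¹ * t⁻¹ = (t * x * t⁻¹)⁻¹ by group]
      exact inv_mem ix
  have hsplit : ∀ g : OM6, g ∈ H ∨ g * t ∈ H := by
    intro g
    have hg : g ∈ G6 := by rw [G6_top]; trivial
    induction hg using Subgroup.closure_induction with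
    | mem x hx => obtain ⟨i, hi, rfl⟩ := hx; exact Or.inr (hgi hi)
    | one => exact Or.inl (one_mem _)
    | mul x y _ _ ix iy =>
      rcases ix with hx | hx <;> rcases iy with hy | hy
      · exact Or.inl (mul_mem hx hy)
      · exact Or.inr (by rw [mul_assoc]; exact mul_mem hx hy)
      · refine Or.inr ?_
        rw [show x * y * t = (x * t) * (t⁻¹ * y * t) by group, hti]
        exact mul_mem hx (by have := hconj y hy; rwa [hti] at this)
      · refine Or.inl ?_
        have := mul_mem hx (hconj _ hy)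
        rwa [show x * t * (t * (y * t) * t⁻¹) = x * (t * t) * y by group, htt, mul_one] at this
    | inv x _ ix =>
      rcases ix with hx | hx
      · exact Or.inl (inv_mem hx)
      · refine Or.inr ?_
        have := hconj _ (inv_mem hx)
        rwa [show t * (x * t)⁻¹ * t⁻¹ = (t * t⁻¹) * x⁻¹ * t⁻¹ by group, mul_inv_cancel, one_mul, hti] at this
  haveI hN : H.Normal := ⟨fun h hh g => by
    rcases hsplit g with hg | hg
    · exact mul_mem (mul_mem hg hh) (inv_mem hg)
    · have := mul_mem (mul_mem hg (hconj h hh)) (inv_mem hg)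
      rwa [show g * t * (t * h * t⁻¹) * (g * t)⁻¹ = g * (t * t) * h * (t * t)⁻¹ * g⁻¹ by group, htt, mul_one,
        inv_one, mul_one] at this⟩
  rw [commutator_def, Subgroup.commutator_le]
  intro a _ b _
  rw [← QuotientGroup.eq_one_iff, ← QuotientGroup.mk'_apply, map_commutatorElement,
    commutatorElement_eq_one_iff_commute]
  have key : ∀ g : OM6, QuotientGroup.mk' H g = 1 ∨ QuotientGroup.mk' H g = QuotientGroup.mk' H t := fun g => by
    rcases hsplit g with hg | hg
    · exact Or.inl ((QuotientGroup.eq_one_iff g).2 hg)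
    · refine Or.inr ((QuotientGroup.eq (s := H)).2 ?_)
      have h := hN.conj_mem _ (inv_mem hg) t
      rwa [show t * (g * t)⁻¹ * t⁻¹ = (t * t⁻¹) * g⁻¹ * t⁻¹ by group, mul_inv_cancel, one_mul, hti] at h
  rcases key a with e | e <;> rcases key b with e' | e' <;> rw [e, e'] <;>
    first | exact Commute.one_left _ | exact Commute.one_right _ | exact Commute.refl _

theorem omega_facts : ∀ f : V6 → ZMod 2, f = quadFormMinus 2 (ZMod 2) 1 1 →
    Nat.card ↥(Omega (ZMod 2) f) = 25920 ∧ IsSimpleGroup ↥(Omega (ZMod 2) f) := by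
  rintro f rfl
  exact ⟨by rw [← Nat.card_congr Block.FischerTypes.Twin.omegaEquiv.toEquiv]; exact Block.FischerTypes.Twin.card_omega,
    Block.FischerTypes.Twin.omegaEquiv.isSimpleGroup_congr.1 inferInstance⟩

theorem range_theta : theta.range = Omega (ZMod 2) ⇑QM := by
  refine (Subgroup.eq_of_le_of_card_ge omega_le_range ?_).symm
  rw [(omega_facts ⇑QM (coe_qfMinus 2 1 1)).1]
  exact card_range_le

theorem card_HH : Nat.card HH = 77760 * 256 := by
  refine le_antisymm card_HH_le ?_
  rw [← theta.ker.card_mul_index, Subgroup.index_ker, range_theta, (omega_facts ⇑QM (coe_qfMinus 2 1 1)).1]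
  have := card_ker_theta_ge
  omega

theorem card_ker_theta : Nat.card theta.ker = 3 * 256 := by
  have h := theta.ker.card_mul_index
  rw [Subgroup.index_ker, range_theta, (omega_facts ⇑QM (coe_qfMinus 2 1 1)).1, card_HH] at h
  omega

end Cfsg.Agent.Spor.CoSuz

end
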