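import Cfsg.Agent.Lib.Spor.Leech.Cert

/-!
Combinations of vectors packed five bits an entry, computed through sixteen bit fields.
-/

set_option autoImplicit false
set_option maxRecDepth 100000

namespace Cfsg.Agent.Spor.CoSuz

open Cfsg Cfsg.Agent.Spor Cfsg.Agent.Spor.Leech

/-- Sixteen bit fields. -/
def pk : ℕ → (ℕ → ℕ) → ℕ
  | 0, _ => 0
  | n + 1, f => Nat.add (f 0) (Nat.mul 65536 (pk n fun i => f (i + 1)))

/-- A field. -/
def gf (X i : ℕ) : ℕ := Nat.mod (Nat.shiftRight X (Nat.mul 16 i)) 65536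

theorem gf_eq (X i : ℕ) : gf X i = X / 65536 ^ i % 65536 := by
  show (X >>> (16 * i)) % 65536 = _
  rw [Nat.shiftRight_eq_div_pow, pow_mul]
  norm_num

theorem gf_pk : ∀ (n : ℕ) (f : ℕ → ℕ) (i : ℕ), i < n → (∀ j < n, f j < 65536) → gf (pk n f) i = f i
  | 0, _, _, h, _ => absurd h (Nat.not_lt_zero _)
  | n + 1, f, 0, _, hf => by
    rw [gf_eq, pk, pow_zero, Nat.div_one]
    show (f 0 + 65536 * _) % 65536 = f 0
    rw [Nat.add_mul_mod_self_left, Nat.mod_eq_of_lt (hf 0 (Nat.succ_pos n))]
  | n + 1, f, i + 1, h, hf => by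
    have ih := gf_pk n (fun j => f (j + 1)) i (by omega) fun j hj => hf (j + 1) (by omega)
    rw [gf_eq] at ih ⊢
    rw [pk, pow_succ', ← Nat.div_div_eq_div_mul]
    show (f 0 + 65536 * _) / 65536 / _ % 65536 = _
    rw [Nat.add_mul_div_left _ _ (by norm_num), Nat.div_eq_of_lt (hf 0 (Nat.succ_pos n)), Nat.zero_add, ih]

theorem pk_congr : ∀ (n : ℕ) (f g : ℕ → ℕ), (∀ i < n, f i = g i) → pk n f = pk n g
  | 0, _, _, _ => rfl
  | n + 1, f, g, h => by rw [pk, pk, h 0 (Nat.succ_pos n), pk_congr n _ _ fun i hi => h (i + 1) (by omega)]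

theorem pk_add : ∀ (n : ℕ) (f g : ℕ → ℕ), pk n f + pk n g = pk n fun i => f i + g i
  | 0, _, _ => rfl
  | n + 1, f, g => by
    simp only [pk, ← pk_add n (fun i => f (i + 1)) fun i => g (i + 1), Nat.add_eq, Nat.mul_eq]
    ring

theorem pk_mul : ∀ (n c : ℕ) (f : ℕ → ℕ), c * pk n f = pk n fun i => c * f i
  | 0, c, _ => Nat.mul_zero c
  | n + 1, c, f => by
    simp only [pk, ← pk_mul n c fun i => f (i + 1), Nat.add_eq, Nat.mul_eq]
    ring

theorem pk_zero : ∀ n : ℕ, pk n (fun _ => 0) = 0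
  | 0 => rfl
  | n + 1 => by simp [pk, pk_zero n]

/-- A vector in sixteen bit fields. -/
def wide (X : ℕ) : ℕ := pk 24 (Golay.get X)

/-- The vectors in sixteen bit fields. -/
def wideL : List ℕ → List ℕ
  | [] => []
  | X :: L => forceN (wide X) fun Y => Y :: wideL L

/-- The sum. -/
def sumL : List ℕ → ℕ
  | [] => 0
  | Y :: W => Nat.add Y (sumL W)

/-- The sum of the entries. -/
def gsum : ℕ → ℕ → ℕ
  | 0, _ => 0
  | n + 1, U => Nat.add (Nat.mod U 32) (gsum n (Nat.shiftRight U 5))

/-- The sum weighted by the entries. -/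
def accS : List ℕ → ℕ → ℕ
  | [], _ => 0
  | Y :: W, U => Nat.add (Nat.mul (Nat.mod U 32) Y) (accS W (Nat.shiftRight U 5))

/-- A coefficient of a combination, raised by 128. -/
def accV (S G C p : ℕ) : ℕ := Nat.sub (Nat.add (gf S p) 6272) (Nat.add (Nat.mul 16 G) (Nat.mul 16 (gf C p)))

/-- The coefficients of a combination of the vectors, raised by 128. -/
def accP (T : List ℕ) (U p : ℕ) : ℕ := accV (accS (wideL T) U) (gsum 24 U) (sumL (wideL T)) p

/-- A combination from the widened vectors. -/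
def colW (W : List ℕ) (C U : ℕ) : ℕ :=
  forceN (accS W U) fun S => forceN (gsum 24 U) fun G => Golay.pack 24 fun p => Nat.div (accV S G C p) 8

/-- The combinations of several coefficient vectors. -/
def mapW (W : List ℕ) (C : ℕ) : List ℕ → List ℕ
  | [] => []
  | U :: L => forceN (colW W C U) fun X => X :: mapW W C L

/-- The packed rows of a product. -/
def mulP (T U : List ℕ) : List ℕ := forceN (sumL (wideL T)) fun C => mapW (wideL T) C U

/-- A combination. -/
def colP (T : List ℕ) (U : ℕ) : ℕ := colW (wideL T) (sumL (wideL T)) U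

theorem colP_eq (T : List ℕ) (U : ℕ) : colP T U = Golay.pack 24 fun p => accP T U p / 8 := by
  simp only [colP, colW, forceN_eq]; rfl

theorem mapW_eq (W : List ℕ) (C : ℕ) : ∀ L : List ℕ, mapW W C L = L.map (colW W C)
  | [] => rfl
  | U :: L => by rw [mapW, forceN_eq, mapW_eq W C L, List.map_cons]

theorem mulP_eq (T U : List ℕ) : mulP T U = U.map (colP T) := by
  rw [mulP, forceN_eq, mapW_eq]; rfl

theorem wideL_eq : ∀ L : List ℕ, wideL L = L.map wide
  | [] => rfl
  | X :: L => by rw [wideL, forceN_eq, wideL_eq L, List.map_cons]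

theorem get_shift (U r : ℕ) : Golay.get (Nat.shiftRight U 5) r = Golay.get U (r + 1) := by
  show ((U >>> 5) >>> (5 * r)) % 32 = (U >>> (5 * (r + 1))) % 32
  rw [← Nat.shiftRight_add]
  ring_nf

theorem get_shift' (U r : ℕ) : Golay.get (U >>> 5) r = Golay.get U (r + 1) := get_shift U r

theorem get_zero (U : ℕ) : Nat.mod U 32 = Golay.get U 0 := by simp [Golay.get]; rfl

theorem gsum_eq : ∀ (n U : ℕ), gsum n U = ((List.range n).map (Golay.get U)).sum
  | 0, _ => rfl
  | n + 1, U => by
    rw [gsum, gsum_eq n, List.range_succ_eq_map, List.map_cons, List.sum_cons, List.map_map, get_zero, Nat.add_eq]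
    rw [show Golay.get (Nat.shiftRight U 5) = fun x => Golay.get U (x + 1) from funext (get_shift U)]
    rfl

theorem accS_eq : ∀ (T : List ℕ) (U : ℕ), accS (wideL T) U =
    pk 24 fun p => ((List.range T.length).map fun r => Golay.get U r * Golay.get (T.getD r 0) p).sum
  | [], _ => (pk_zero 24).symm
  | X :: T, U => by
    rw [wideL_eq, List.map_cons, accS, ← wideL_eq, accS_eq T, get_zero, wide, Nat.add_eq, Nat.mul_eq, pk_mul, pk_add]
    refine pk_congr 24 _ _ fun p _ => ?_
    rw [List.length_cons, List.range_succ_eq_map, List.map_cons, List.sum_cons, List.map_map]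
    simp [Function.comp_def, get_shift']

theorem sumL_eq : ∀ T : List ℕ, sumL (wideL T) =
    pk 24 fun p => ((List.range T.length).map fun r => Golay.get (T.getD r 0) p).sum
  | [] => (pk_zero 24).symm
  | X :: T => by
    rw [wideL_eq, List.map_cons, sumL, ← wideL_eq, sumL_eq T, wide, Nat.add_eq, pk_add]
    refine pk_congr 24 _ _ fun p _ => ?_
    rw [List.length_cons, List.range_succ_eq_map, List.map_cons, List.sum_cons, List.map_map]
    simp [Function.comp_def]

/-- An entry of packed rows. -/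
def ent (T : List ℕ) (q p : GolayPt) : ℤ := (Golay.get (T.getD (Golay.idx q) 0) (Golay.idx p) : ℤ) - 16

/-- A packed vector, unpacked. -/
def decV (U : ℕ) : Vec := fun q => (Golay.get U (Golay.idx q) : ℤ) - 16

theorem decV_encV {x : Vec} (hx : Small x) : decV (encV x) = x := funext fun q => by
  rw [decV, cast_get hx]; ring

/-- The exact value of a coefficient. -/
theorem accP_eq {T : List ℕ} (hT : T.length = 24) (U : ℕ) (p : GolayPt) :
    accP T U (Golay.idx p) = (∑ q, decV U q * ent T q p + 128).toNat := by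
  have hg : ∀ X i, Golay.get X i < 32 := fun X i => Nat.mod_lt _ (by norm_num)
  have h1 : gf (accS (wideL T) U) (Golay.idx p) = ∑ q, Golay.get U (Golay.idx q) * Golay.get (T.getD (Golay.idx q) 0) (Golay.idx p) := by
    rw [accS_eq, gf_pk 24 _ _ (Golay.idx_lt p) fun j _ => ?_, hT, sum_range_idx]
    refine lt_of_le_of_lt (List.sum_le_card_nsmul _ 1024 ?_) (by simp [hT])
    intro x hx
    obtain ⟨r, -, rfl⟩ := List.mem_map.1 hx
    exact le_of_lt (Nat.mul_lt_mul'' (hg _ _) (hg _ _))
  have h2 : gf (sumL (wideL T)) (Golay.idx p) = ∑ q, Golay.get (T.getD (Golay.idx q) 0) (Golay.idx p) := by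
    rw [sumL_eq, gf_pk 24 _ _ (Golay.idx_lt p) fun j _ => ?_, hT, sum_range_idx]
    refine lt_of_le_of_lt (List.sum_le_card_nsmul _ 32 ?_) (by simp [hT])
    intro x hx
    obtain ⟨r, -, rfl⟩ := List.mem_map.1 hx
    exact le_of_lt (hg _ _)
  have h3 : gsum 24 U = ∑ q, Golay.get U (Golay.idx q) := by rw [gsum_eq, sum_range_idx]
  have key : ((gf (accS (wideL T) U) (Golay.idx p) + 6272 : ℕ) : ℤ) -
      ((16 * gsum 24 U + 16 * gf (sumL (wideL T)) (Golay.idx p) : ℕ) : ℤ) = ∑ q, decV U q * ent T q p + 128 := by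
    rw [h1, h2, h3]
    simp only [decV, ent, sub_mul, mul_sub, Finset.sum_sub_distrib, ← Finset.mul_sum, ← Finset.sum_mul,
      Finset.sum_const, Finset.card_univ, Golay.card_golayPt]
    push_cast
    simp only [Finset.mul_sum, Finset.sum_mul]
    ring
  rw [← key]
  show (gf _ _ + 6272) - (16 * _ + 16 * _) = _
  omega

theorem accP_cast {T : List ℕ} (hT : T.length = 24) {U : ℕ} {p : GolayPt} {n : ℕ}
    (h : accP T U (Golay.idx p) = n) (hn : 0 < n) : ∑ q, decV U q * ent T q p = (n : ℤ) - 128 := by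
  rw [accP_eq hT] at h
  omega

end Cfsg.Agent.Spor.CoSuz
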