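import Cfsg.Agent.Lib.Spor.CoSuz.Octad
import Cfsg.Agent.Lib.Classical.OrthGenRefl
import Cfsg.Agent.Lib.Classical.QuadModels
import Cfsg.Agent.Lib.Block.FischerTypes.TwinOrth

/-!
The action of the members of the centraliser keeping the octad on the kernel of the reduction: the derived group of
the orthogonal group of minus type in dimension six.
-/

set_option autoImplicit false
set_option maxRecDepth 100000

noncomputable section

namespace Cfsg.Agent.Spor.CoSuz

open Cfsg Matrix Cfsg.Agent.Spor.Leech Cfsg.Agent.Fus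
open Cfsg.Agent.Classical Cfsg.Agent.Classical.OrthAut
open Cfsg.Agent.Block.FischerTypes.Twin (I6 bitOf qvec qvec_surj qvec_xor qvec_zero)

/-- The form. -/
abbrev QM : QuadraticForm (ZMod 2) (I6 → ZMod 2) := qfMinus 2 (ZMod 2) 1 1

/-- Its group. -/
abbrev OM6 : Subgroup (GL I6 (ZMod 2)) := isometryGroup (ZMod 2) ⇑QM

/-- The vectors. -/
abbrev V6 : Type := I6 → ZMod 2

theorem qm_eq (v : V6) : QM v = quadFormMinus 2 (ZMod 2) 1 1 v := qfMinus_apply 2 1 1 v

/-- The matching index. -/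
def part : I6 → I6
  | .inl (.inl k) => .inl (.inr k)
  | .inl (.inr k) => .inl (.inl k)
  | .inr k => .inr (k + 1)

/-- The polar form. -/
def B6 (v w : V6) : ZMod 2 := ∑ p, v p * w (part p)

theorem q_add : ∀ v w : V6, quadFormMinus 2 (ZMod 2) 1 1 (v + w) =
    quadFormMinus 2 (ZMod 2) 1 1 v + quadFormMinus 2 (ZMod 2) 1 1 w + B6 v w := by
  decide +kernel

/-- The central involution of the kernel group. -/
def eC : Co0 := negCo * Co1Centre.eO

/-- Its rows. -/
def eCP : List ℕ := eP.map negX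

theorem hasT_eC : HasT eC eCP := hasT_eO.neg

theorem ne_of {g h : Co0} {T U : List ℕ} (hg : HasT g T) (hh : HasT h U) (e : (T == U) = false) : g ≠ h := by
  rintro rfl
  have hl : T = U := List.ext_getElem (hg.len.trans hh.len.symm) fun i hi _ => by
    have hi' : i < 24 := hg.len ▸ hi
    have := (hg.img (Golay.pt i)).trans (hh.img (Golay.pt i)).symm
    rw [Golay.idx_pt hi'] at this
    rwa [List.getD_eq_getElem, List.getD_eq_getElem] at this
  simp [hl] at e

theorem eC_ne : eC ≠ 1 := ne_of hasT_eC hasT_one (by decide +kernel)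

theorem eC_sq : eC * eC = 1 := by
  have h : (mulP eCP eCP == oneP) = true := by decide +kernel
  have e := hasT_eC.mul hasT_eC
  rw [beq_iff_eq.1 h] at e
  exact e.eq hasT_one

theorem eO_mem_HH : Co1Centre.eO ∈ HH := ⟨Co1Centre.Cs_eO, eO_mem_CA⟩

theorem negCo_mem_HH : negCo ∈ HH := ⟨Co1Centre.negCo_mem, negCo_mem_CA⟩

theorem eC_comm {g : Co0} (hg : g ∈ HH) : g * eC = eC * g := by
  rw [eC, ← mul_assoc, negCo_comm, mul_assoc, Co1Centre.comm_of_mem hg.1, ← mul_assoc]

/-- A power of the central involution. -/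
def Ev (v : ZMod 2) : Co0 := if v = 0 then 1 else eC

theorem Ev_zero : Ev 0 = 1 := if_pos rfl

theorem Ev_one : Ev 1 = eC := if_neg one_ne_zero

theorem zmod2 : ∀ v : ZMod 2, v = 0 ∨ v = 1 := by decide

theorem Ev_add (v w : ZMod 2) : Ev (v + w) = Ev v * Ev w := by
  rcases zmod2 v with rfl | rfl <;> rcases zmod2 w with rfl | rfl
  · rw [add_zero, Ev_zero, one_mul]
  · rw [zero_add, Ev_zero, one_mul]
  · rw [add_zero, Ev_zero, mul_one]
  · rw [CharTwo.add_self_eq_zero, Ev_zero, Ev_one, eC_sq]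

theorem Ev_comm {g : Co0} (hg : g ∈ HH) (v : ZMod 2) : g * Ev v = Ev v * g := by
  rcases zmod2 v with rfl | rfl
  · rw [Ev_zero, one_mul, mul_one]
  · rw [Ev_one, eC_comm hg]

theorem Ev_inj {v w : ZMod 2} (h : Ev v = Ev w) : v = w := by
  rcases zmod2 v with rfl | rfl <;> rcases zmod2 w with rfl | rfl
  · rfl
  · rw [Ev_zero, Ev_one] at h; exact absurd h.symm eC_ne
  · rw [Ev_zero, Ev_one] at h; exact absurd h eC_ne
  · rfl

theorem Ev_sq (v : ZMod 2) : Ev v * Ev v = 1 := by rw [← Ev_add, CharTwo.add_self_eq_zero, Ev_zero]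

/-- A chosen member of the kernel. -/
def xC (j : ℕ) : Co0 := ofT (baseX.getD j [])

theorem hasT_x {j : ℕ} (hj : j < 6) : HasT (xC j) (baseX.getD j []) := hasT_ofT (chk_base j hj)

/-- The rows of a power of the central involution. -/
def EvP (v : ZMod 2) : List ℕ := if v = 0 then oneP else eCP

theorem hasT_Ev (v : ZMod 2) : HasT (Ev v) (EvP v) := by
  rcases zmod2 v with rfl | rfl
  · rw [Ev_zero]; exact hasT_one
  · rw [Ev_one]; exact hasT_eC

theorem bitOf_lt : ∀ p : I6, bitOf p < 6 := by decide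

theorem base_chk : ∀ j < 6, (chkComm (baseX.getD j []) && chkCs (baseX.getD j []) && chkKer (baseX.getD j [])) = true := by
  decide +kernel

theorem base_pairs : ∀ p r : I6, (mulP (baseX.getD (bitOf p) []) (baseX.getD (bitOf r) []) ==
    mulP (EvP (if r = part p then 1 else 0)) (mulP (baseX.getD (bitOf r) []) (baseX.getD (bitOf p) []))) = true := by
  decide +kernel

theorem base_squares : ∀ p : I6, (mulP (baseX.getD (bitOf p) []) (baseX.getD (bitOf p) []) ==
    EvP (quadFormMinus 2 (ZMod 2) 1 1 (qvec (2 ^ bitOf p)))) = true := by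
  decide +kernel

theorem x_mem {j : ℕ} (hj : j < 6) : xC j ∈ HH := by
  have h := base_chk j hj
  simp only [Bool.and_eq_true] at h
  exact ⟨mem_Cs_of (hasT_x hj) h.1.2, mem_CA_of (hasT_x hj) h.1.1⟩

/-- A member as one of `HH`. -/
def toHH (g : Co0) (h : g ∈ HH) : HH := ⟨g, h⟩

theorem negCo_ker : toHH negCo negCo_mem_HH ∈ PhiH.ker :=
  mem_ker_of (g := ⟨negCo, Co1Centre.negCo_mem⟩) (by
    have := hasT_one.neg
    rwa [mul_one] at this) (by decide +kernel)

theorem eO_ker : toHH Co1Centre.eO eO_mem_HH ∈ PhiH.ker :=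
  mem_ker_of (g := ⟨Co1Centre.eO, Co1Centre.Cs_eO⟩) hasT_eO (by decide +kernel)

/-- The generated group. -/
def K0 : Subgroup Co0 := Subgroup.closure ({negCo, Co1Centre.eO} ∪ Set.range fun p : I6 => xC (bitOf p))

theorem K0_le : K0 ≤ PhiH.ker.map HH.subtype := by
  refine (Subgroup.closure_le _).2 ?_
  rintro g ((rfl | rfl) | ⟨p, rfl⟩)
  · exact ⟨_, negCo_ker, rfl⟩
  · exact ⟨_, eO_ker, rfl⟩
  · have h := base_chk _ (bitOf_lt p)
    simp only [Bool.and_eq_true] at h
    exact ⟨toHH _ (x_mem (bitOf_lt p)), mem_ker_of (g := ⟨xC (bitOf p), (x_mem (bitOf_lt p)).1⟩)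
      (hasT_x (bitOf_lt p)) h.2, rfl⟩

theorem K0_HH {k : Co0} (hk : k ∈ K0) : k ∈ HH := by
  obtain ⟨g, -, rfl⟩ := K0_le hk
  exact g.2

/-- The commutation with a vector. -/
def Com (k l : Co0) (v : ZMod 2) : Prop := k * l = Ev v * (l * k)

theorem Com.unique {k l : Co0} {v w : ZMod 2} (h : Com k l v) (h' : Com k l w) : v = w :=
  Ev_inj (mul_right_cancel (h.symm.trans h'))

theorem Com.mul {k k' l : Co0} {v w : ZMod 2} (hk : k ∈ HH) (h : Com k l v) (h' : Com k' l w) :
    Com (k * k') l (v + w) := by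
  calc k * k' * l = k * (Ev w * (l * k')) := by rw [mul_assoc, h']
    _ = Ev w * (k * l * k') := by rw [← mul_assoc, Ev_comm hk, mul_assoc, ← mul_assoc k]
    _ = Ev w * Ev v * (l * (k * k')) := by rw [h]; group
    _ = _ := by rw [← Ev_add, add_comm w]

theorem Com.inv {k l : Co0} {v : ZMod 2} (hk : k ∈ HH) (h : Com k l v) : Com k⁻¹ l v := by
  have e : k * l * k⁻¹ = Ev v * l := by rw [h]; group
  have e2 : k⁻¹ * (k * l * k⁻¹) * k = l := by group
  rw [e, ← mul_assoc, Ev_comm (HH.inv_mem hk), mul_assoc (Ev v), mul_assoc (Ev v)] at e2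
  calc k⁻¹ * l = Ev v * (Ev v * (k⁻¹ * l * k)) * k⁻¹ := by rw [← mul_assoc, Ev_sq]; group
    _ = Ev v * (l * k⁻¹) := by rw [e2, mul_assoc]

theorem Com.symm {k l : Co0} {v : ZMod 2} (h : Com k l v) : Com l k v := by
  show l * k = Ev v * (k * l)
  rw [h, ← mul_assoc, Ev_sq, one_mul]

theorem central_com {k : Co0} (hk : k = negCo ∨ k = Co1Centre.eO) {g : Co0} (hg : g ∈ HH) : Com k g 0 := by
  show k * g = Ev 0 * (g * k)
  rw [Ev_zero, one_mul]
  rcases hk with rfl | rfl
  · exact (negCo_comm g).symm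
  · exact (Co1Centre.comm_of_mem hg.1).symm

theorem ite_part : ∀ p r : I6, (if part p = r then (1 : ZMod 2) else 0) = if p = part r then 1 else 0 := by decide

theorem exists_com {k : Co0} (hk : k ∈ K0) : ∃ v : V6, ∀ p, Com k (xC (bitOf p)) (v (part p)) := by
  induction hk using Subgroup.closure_induction with
  | mem g hg =>
    rcases hg with h | ⟨r, rfl⟩
    · exact ⟨0, fun p => central_com (by simpa using h) (x_mem (bitOf_lt p))⟩
    · refine ⟨fun q => if q = r then 1 else 0, fun p => ?_⟩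
      have e := (hasT_x (bitOf_lt r)).mul (hasT_x (bitOf_lt p))
      rw [beq_iff_eq.1 (base_pairs r p)] at e
      show xC (bitOf r) * xC (bitOf p) = Ev (if part p = r then 1 else 0) * (xC (bitOf p) * xC (bitOf r))
      rw [ite_part]
      exact e.eq ((hasT_Ev _).mul ((hasT_x (bitOf_lt p)).mul (hasT_x (bitOf_lt r))))
  | one => exact ⟨0, fun p => by show _ = _; rw [Pi.zero_apply, Ev_zero]; group⟩
  | mul k l hk _ ik il =>
    obtain ⟨v, hv⟩ := ik
    obtain ⟨w, hw⟩ := il
    exact ⟨v + w, fun p => (hv p).mul (K0_HH hk) (hw p)⟩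
  | inv k hk ik =>
    obtain ⟨v, hv⟩ := ik
    exact ⟨v, fun p => (hv p).inv (K0_HH hk)⟩

/-- The coordinates. -/
def iota (k : K0) : V6 := (exists_com k.2).choose

theorem iota_spec (k : K0) (p : I6) : Com k (xC (bitOf p)) (iota k (part p)) := (exists_com k.2).choose_spec p

theorem part_part : ∀ p, part (part p) = p := by decide

theorem iota_eq {k : K0} {v : V6} (h : ∀ p, Com k (xC (bitOf p)) (v (part p))) : iota k = v := funext fun p => by
  have := (iota_spec k (part p)).unique (h (part p))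
  rwa [part_part] at this

theorem iota_mul (k l : K0) : iota (k * l) = iota k + iota l :=
  iota_eq fun p => (iota_spec k p).mul (K0_HH k.2) (iota_spec l p)

theorem iota_central {k : K0} (h : (k : Co0) = negCo ∨ (k : Co0) = Co1Centre.eO) : iota k = 0 :=
  iota_eq fun p => central_com h (x_mem (bitOf_lt p))

/-- The coordinate map. -/
def iotaHom : K0 →* Multiplicative V6 where
  toFun k := Multiplicative.ofAdd (iota k)
  map_one' := by
    have h := iota_mul 1 1
    rw [one_mul, left_eq_add] at h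
    rw [h]; rfl
  map_mul' k l := by rw [iota_mul]; rfl

theorem iota_one : iota 1 = 0 := by simpa [iotaHom] using iotaHom.map_one

/-- A chosen member as one of the group. -/
def xK (p : I6) : K0 := ⟨xC (bitOf p), Subgroup.subset_closure (Or.inr ⟨p, rfl⟩)⟩

theorem iota_x (r : I6) : iota (xK r) = fun q => if q = r then 1 else 0 := iota_eq fun p => by
  have e := (hasT_x (bitOf_lt r)).mul (hasT_x (bitOf_lt p))
  rw [beq_iff_eq.1 (base_pairs r p)] at e
  show xC (bitOf r) * xC (bitOf p) = Ev (if part p = r then 1 else 0) * (xC (bitOf p) * xC (bitOf r))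
  rw [ite_part]
  exact e.eq ((hasT_Ev _).mul ((hasT_x (bitOf_lt p)).mul (hasT_x (bitOf_lt r))))

theorem qvec_bit : ∀ r : I6, qvec (2 ^ bitOf r) = fun q => if q = r then (1 : ZMod 2) else 0 := by decide

/-- Commutation inside the group. -/
theorem com_pair (k l : K0) : Com (k : Co0) (l : Co0) (B6 (iota k) (iota l)) := by
  obtain ⟨l, hl⟩ := l
  induction hl using Subgroup.closure_induction with
  | mem g hg =>
    rcases hg with h | ⟨r, rfl⟩
    · show Com (k : Co0) g (B6 (iota k) (iota (⟨g, Subgroup.subset_closure (Or.inl h)⟩ : K0)))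
      rw [iota_central (k := ⟨g, Subgroup.subset_closure (Or.inl h)⟩) (by simpa using h)]
      have h0 : B6 (iota k) 0 = 0 := by simp [B6]
      rw [h0]
      exact (central_com (by simpa using h) (K0_HH k.2)).symm
    · have h0 : B6 (iota k) (iota (xK r)) = iota k (part r) := by
        rw [iota_x, B6, Finset.sum_eq_single (part r)]
        · rw [part_part, if_pos rfl, mul_one]
        · intro q _ hq
          rw [if_neg (fun e : part q = r => hq (by rw [← e, part_part])), mul_zero]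
        · simp
      exact h0 ▸ iota_spec k r
  | one =>
    show (k : Co0) * 1 = _
    rw [show (⟨1, _⟩ : K0) = 1 from rfl, iota_one, show B6 (iota k) 0 = 0 by simp [B6], Ev_zero, OneMemClass.coe_one]
    group
  | mul x y hx hy ix iy =>
    rw [show (⟨x * y, _⟩ : K0) = ⟨x, hx⟩ * ⟨y, hy⟩ from rfl, iota_mul,
      show B6 (iota k) (iota ⟨x, hx⟩ + iota ⟨y, hy⟩) = B6 (iota k) (iota ⟨x, hx⟩) + B6 (iota k) (iota ⟨y, hy⟩) by
        simp [B6, mul_add, Finset.sum_add_distrib]]
    exact ((ix.symm).mul (K0_HH hx) iy.symm).symm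
  | inv x hx ix =>
    have e : iota (⟨x⁻¹, K0.inv_mem hx⟩ : K0) = iota ⟨x, hx⟩ := iota_eq fun p => (iota_spec ⟨x, hx⟩ p).inv (K0_HH hx)
    rw [e]
    exact (ix.symm.inv (K0_HH hx)).symm

theorem negCo_ne : negCo ≠ (1 : Co0) := fun h => by
  have := ne_of (hasT_one.neg) hasT_one (by decide +kernel)
  rw [mul_one] at this
  exact this h

theorem eO_sq : Co1Centre.eO * Co1Centre.eO = 1 := by
  have h : (mulP eP eP == oneP) = true := by decide +kernel
  have e := hasT_eO.mul hasT_eO
  rw [beq_iff_eq.1 h] at e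
  exact e.eq hasT_one

/-- The squares. -/
theorem square_eq (k : K0) : (k : Co0) * (k : Co0) = Ev (quadFormMinus 2 (ZMod 2) 1 1 (iota k)) := by
  obtain ⟨k, hk⟩ := k
  have q0 : quadFormMinus 2 (ZMod 2) 1 1 (0 : V6) = 0 := by decide +kernel
  induction hk using Subgroup.closure_induction with
  | mem g hg =>
    rcases hg with h | ⟨r, rfl⟩
    · show g * g = Ev (quadFormMinus 2 (ZMod 2) 1 1 (iota (⟨g, Subgroup.subset_closure (Or.inl h)⟩ : K0)))
      rw [iota_central (k := ⟨g, Subgroup.subset_closure (Or.inl h)⟩) (by simpa using h), q0, Ev_zero]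
      rcases h with rfl | rfl
      exacts [negCo_sq, eO_sq]
    · show xC (bitOf r) * xC (bitOf r) = Ev (quadFormMinus 2 (ZMod 2) 1 1 (iota (xK r)))
      rw [iota_x, ← qvec_bit]
      have e := (hasT_x (bitOf_lt r)).mul (hasT_x (bitOf_lt r))
      rw [beq_iff_eq.1 (base_squares r)] at e
      exact e.eq (hasT_Ev _)
  | one => rw [show (⟨1, _⟩ : K0) = 1 from rfl, iota_one, q0, Ev_zero, OneMemClass.coe_one, one_mul]
  | mul x y hx hy ix iy =>
    have hc := com_pair ⟨x, hx⟩ ⟨y, hy⟩
    rw [show (⟨x * y, _⟩ : K0) = ⟨x, hx⟩ * ⟨y, hy⟩ from rfl, iota_mul, q_add, Ev_add, Ev_add, ← ix, ← iy]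
    show x * y * (x * y) = x * x * (y * y) * Ev _
    have hc' : y * x = Ev (B6 (iota ⟨x, hx⟩) (iota ⟨y, hy⟩)) * (x * y) := hc.symm
    calc x * y * (x * y) = x * (y * x) * y := by group
      _ = x * Ev (B6 (iota ⟨x, hx⟩) (iota ⟨y, hy⟩)) * (x * y * y) := by rw [hc']; group
      _ = Ev (B6 (iota ⟨x, hx⟩) (iota ⟨y, hy⟩)) * (x * x * (y * y)) := by rw [Ev_comm (K0_HH hx)]; group
      _ = _ := (Ev_comm (HH.mul_mem (HH.mul_mem (K0_HH hx) (K0_HH hx)) (HH.mul_mem (K0_HH hy) (K0_HH hy))) _).symm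
  | inv x hx ix =>
    have e : iota (⟨x⁻¹, K0.inv_mem hx⟩ : K0) = iota ⟨x, hx⟩ := iota_eq fun p => (iota_spec ⟨x, hx⟩ p).inv (K0_HH hx)
    have ix' : x * x = Ev (quadFormMinus 2 (ZMod 2) 1 1 (iota ⟨x, hx⟩)) := ix
    show x⁻¹ * x⁻¹ = _
    rw [e, ← _root_.mul_inv_rev, ix']
    exact inv_eq_of_mul_eq_one_right (Ev_sq _)

theorem iotaHom_surjective : Function.Surjective iotaHom := by
  intro v
  let S : Set V6 := {w | ∃ k, iota k = w}
  have hadd : ∀ a ∈ S, ∀ b ∈ S, a + b ∈ S := by
    rintro _ ⟨k, rfl⟩ _ ⟨l, rfl⟩; exact ⟨k * l, iota_mul k l⟩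
  have hsum : ∀ s : Finset I6, (∑ r ∈ s, fun q => if q = r then v.toAdd r else 0) ∈ S := by
    intro s
    induction s using Finset.cons_induction with
    | empty => exact ⟨1, by rw [iota_one, Finset.sum_empty]⟩
    | cons r s _ ih =>
      rw [Finset.sum_cons]
      refine hadd _ ?_ _ ih
      rcases zmod2 (v.toAdd r) with h | h
      · exact ⟨1, by rw [iota_one]; funext q; simp [h]⟩
      · exact ⟨xK r, by rw [iota_x]; funext q; simp [h]⟩
  obtain ⟨k, hk⟩ := hsum Finset.univ
  refine ⟨k, ?_⟩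
  show Multiplicative.ofAdd (iota k) = v
  rw [hk, show (∑ r, fun q => if q = r then v.toAdd r else 0) = v.toAdd from funext fun q => by simp]
  exact ofAdd_toAdd v

theorem card_K0_ge : 256 ≤ Nat.card K0 := by
  have h4 : ∀ k : Fin 4, ![(1 : Co0), negCo, Co1Centre.eO, eC] k ∈ K0 := by
    have hn : negCo ∈ K0 := Subgroup.subset_closure (Or.inl (Or.inl rfl))
    have he : Co1Centre.eO ∈ K0 := Subgroup.subset_closure (Or.inl (Or.inr rfl))
    intro k; fin_cases k
    exacts [one_mem _, hn, he, mul_mem hn he]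
  have hker : ∀ k, (⟨_, h4 k⟩ : K0) ∈ iotaHom.ker := fun k => by
    show Multiplicative.ofAdd (iota _) = 1
    rw [← ofAdd_zero]
    congr 1
    fin_cases k
    · exact iota_one
    · exact iota_central (Or.inl rfl)
    · exact iota_central (Or.inr rfl)
    · show iota ((⟨negCo, h4 1⟩ : K0) * ⟨Co1Centre.eO, h4 2⟩) = 0
      rw [iota_mul, iota_central (Or.inl rfl), iota_central (Or.inr rfl), add_zero]
  have hT : ∀ k : Fin 4, HasT (![(1 : Co0), negCo, Co1Centre.eO, eC] k) (![oneP, oneP.map negX, eP, eCP] k) := by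
    intro k; fin_cases k
    · exact hasT_one
    · have := hasT_one.neg
      rwa [mul_one] at this
    · exact hasT_eO
    · exact hasT_eC
  have hd : ∀ i j : Fin 4, i ≠ j → (![oneP, oneP.map negX, eP, eCP] i == ![oneP, oneP.map negX, eP, eCP] j) = false := by
    decide +kernel
  have hinj : Function.Injective fun k : Fin 4 => (⟨⟨_, h4 k⟩, hker k⟩ : iotaHom.ker) := fun i j e => by
    by_contra hne
    exact ne_of (hT i) (hT j) (hd i j hne) (congrArg (fun x : iotaHom.ker => ((x : K0) : Co0)) e)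
  have h := iotaHom.ker.card_mul_index
  rw [Subgroup.index_ker, MonoidHom.range_eq_top.2 iotaHom_surjective, Subgroup.card_top,
    Nat.card_eq_fintype_card (α := Multiplicative V6), Fintype.card_multiplicative] at h
  have h1 := Nat.card_le_card_of_injective _ hinj
  rw [Nat.card_fin] at h1
  rw [← h, show Fintype.card V6 = 64 from rfl]
  omega

theorem card_ker_map : Nat.card (PhiH.ker.map HH.subtype) = Nat.card PhiH.ker :=
  Subgroup.card_map_of_injective HH.subtype_injective

theorem K0_eq : K0 = PhiH.ker.map HH.subtype := by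
  refine Subgroup.eq_of_le_of_card_ge K0_le ?_
  rw [card_ker_map]
  exact card_ker_le.trans card_K0_ge

theorem card_K0 : Nat.card K0 = 256 :=
  le_antisymm (by rw [K0_eq, card_ker_map]; exact card_ker_le) card_K0_ge

theorem conj_mem (h : HH) (k : K0) : (h : Co0) * k * (h : Co0)⁻¹ ∈ K0 := by
  obtain ⟨g, hg, e⟩ := K0_le k.2
  rw [← e, K0_eq]
  exact ⟨h * g * h⁻¹, (inferInstance : PhiH.ker.Normal).conj_mem g hg h, rfl⟩

/-- Conjugation on the group. -/
def conjK (h : HH) (k : K0) : K0 := ⟨_, conj_mem h k⟩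

/-- The matrix of conjugation. -/
def matH (h : HH) : Matrix I6 I6 (ZMod 2) := fun i j => iota (conjK h (xK j)) i

theorem iota_conj (h : HH) (k : K0) : iota (conjK h k) = matH h *ᵥ iota k := by
  obtain ⟨k, hk⟩ := k
  induction hk using Subgroup.closure_induction with
  | mem g hg =>
    rcases hg with hc | ⟨r, rfl⟩
    · show iota (conjK h (⟨g, Subgroup.subset_closure (Or.inl hc)⟩ : K0)) =
        matH h *ᵥ iota (⟨g, Subgroup.subset_closure (Or.inl hc)⟩ : K0)
      rw [iota_central (k := ⟨g, Subgroup.subset_closure (Or.inl hc)⟩) (by simpa using hc), Matrix.mulVec_zero]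
      refine iota_central ?_
      show (h : Co0) * g * (h : Co0)⁻¹ = negCo ∨ _
      rcases hc with rfl | rfl
      · exact Or.inl (by rw [negCo_comm, mul_inv_cancel_right])
      · exact Or.inr (by
          show (h : Co0) * Co1Centre.eO * (h : Co0)⁻¹ = _
          rw [Co1Centre.comm_of_mem h.2.1, mul_inv_cancel_right])
    · show iota (conjK h (xK r)) = matH h *ᵥ iota (xK r)
      rw [iota_x, show (fun q => if q = r then (1 : ZMod 2) else 0) = Pi.single r 1 from funext fun q => by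
        rw [Pi.single_apply], Matrix.mulVec_single_one]
      rfl
  | one =>
    rw [show (⟨1, _⟩ : K0) = 1 from rfl, iota_one, Matrix.mulVec_zero,
      show conjK h 1 = 1 from Subtype.ext (by simp [conjK]), iota_one]
  | mul x y hx hy ix iy =>
    rw [show (⟨x * y, _⟩ : K0) = ⟨x, hx⟩ * ⟨y, hy⟩ from rfl, iota_mul, Matrix.mulVec_add, ← ix, ← iy, ← iota_mul]
    congr 1
    refine Subtype.ext ?_
    show (h : Co0) * (x * y) * _ = (h * x * (h : Co0)⁻¹) * (h * y * (h : Co0)⁻¹)
    group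
  | inv x hx ix =>
    have e : iota (⟨x⁻¹, K0.inv_mem hx⟩ : K0) = iota ⟨x, hx⟩ := iota_eq fun p => (iota_spec ⟨x, hx⟩ p).inv (K0_HH hx)
    rw [e, ← ix]
    refine iota_eq fun p => ?_
    have h2 := (iota_spec (conjK h ⟨x, hx⟩) p).inv (K0_HH (conjK h ⟨x, hx⟩).2)
    rwa [show ((conjK h ⟨x, hx⟩ : K0) : Co0)⁻¹ = (conjK h ⟨x⁻¹, K0.inv_mem hx⟩ : K0) by
      show ((h : Co0) * x * (h : Co0)⁻¹)⁻¹ = h * x⁻¹ * (h : Co0)⁻¹
      group] at h2

theorem iota_surj (v : V6) : ∃ k, iota k = v := by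
  obtain ⟨k, hk⟩ := iotaHom_surjective (Multiplicative.ofAdd v)
  exact ⟨k, Multiplicative.ofAdd.injective hk⟩

/-- The matrices as a monoid map. -/
def matHom : HH →* Matrix I6 I6 (ZMod 2) where
  toFun := matH
  map_one' := Matrix.ext_iff_mulVec.2 fun v => by
    obtain ⟨k, rfl⟩ := iota_surj v
    rw [← iota_conj, Matrix.one_mulVec, show conjK 1 k = k from Subtype.ext (by simp [conjK])]
  map_mul' g h := Matrix.ext_iff_mulVec.2 fun v => by
    obtain ⟨k, rfl⟩ := iota_surj v
    rw [← iota_conj, ← Matrix.mulVec_mulVec, ← iota_conj, ← iota_conj]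
    have e : conjK (g * h) k = conjK g (conjK h k) := Subtype.ext (by
      show ((g * h : HH) : Co0) * k * _ = (g : Co0) * (h * k * (h : Co0)⁻¹) * (g : Co0)⁻¹
      rw [Subgroup.coe_mul]
      group)
    rw [e]

theorem isometry_matH (h : HH) : matHom.toHomUnits h ∈ isometryGroup (ZMod 2) ⇑QM := by
  intro u v
  show QM (matH h *ᵥ u) = QM u
  obtain ⟨k, rfl⟩ := iota_surj u
  rw [qm_eq, qm_eq, ← iota_conj]
  apply Ev_inj
  rw [← square_eq, ← square_eq]
  show (h : Co0) * k * (h : Co0)⁻¹ * ((h : Co0) * k * (h : Co0)⁻¹) = _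
  calc _ = (h : Co0) * ((k : Co0) * k) * (h : Co0)⁻¹ := by group
    _ = _ := by rw [square_eq, Ev_comm h.2, mul_inv_cancel_right]

/-- The map to the isometries. -/
def theta : HH →* OM6 := matHom.toHomUnits.codRestrict _ isometry_matH

theorem theta_apply (h : HH) (k : K0) : ogVal (theta h) *ᵥ iota k = iota (conjK h k) := (iota_conj h k).symm

theorem mem_ker_theta {h : HH} : h ∈ theta.ker ↔ ∀ k, iota (conjK h k) = iota k := by
  constructor
  · intro hh k
    rw [← theta_apply, MonoidHom.mem_ker.1 hh, ogVal_one, Matrix.one_mulVec]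
  · intro hh
    refine ogVal_ext (Matrix.ext_iff_mulVec.2 fun v => ?_)
    obtain ⟨k, rfl⟩ := iota_surj v
    rw [theta_apply, hh, ogVal_one, Matrix.one_mulVec]

theorem a_ker : toHH aC a_mem_HH ∈ theta.ker := mem_ker_theta.2 fun k => by
  congr 1
  refine Subtype.ext ?_
  show aC * k * aC⁻¹ = (k : Co0)
  rw [← mem_CA.1 (K0_HH k.2).2, mul_inv_cancel_right]

theorem K0_ker {k : Co0} (hk : k ∈ K0) : toHH k (K0_HH hk) ∈ theta.ker := mem_ker_theta.2 fun l => by
  have e : conjK (toHH k (K0_HH hk)) l = ⟨k, hk⟩ * l * ⟨k, hk⟩⁻¹ := rfl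
  rw [e, iota_mul, iota_mul]
  have := iota_mul ⟨k, hk⟩ (⟨k, hk⟩⁻¹)
  rw [mul_inv_cancel, iota_one] at this
  rw [add_right_comm, ← this, zero_add]

theorem card_ker_theta_ge : 3 * 256 ≤ Nat.card theta.ker := by
  let f : Fin 3 × K0 → theta.ker := fun p =>
    ⟨toHH aC a_mem_HH ^ p.1.val * toHH p.2 (K0_HH p.2.2), mul_mem (pow_mem a_ker _) (K0_ker p.2.2)⟩
  have hf : Function.Injective f := by
    rintro ⟨i, k⟩ ⟨j, l⟩ e
    have e1 : aC ^ i.val * (k : Co0) = aC ^ j.val * (l : Co0) :=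
      congrArg (fun x : theta.ker => ((x : HH) : Co0)) e
    have e2 := congrArg (fun x : theta.ker => PhiH (x : HH)) e
    simp only [f, map_mul, map_pow] at e2
    have hk : ∀ k : K0, PhiH (toHH k (K0_HH k.2)) = 1 := fun k => by
      obtain ⟨g, hg, e⟩ := K0_le k.2
      rw [← MonoidHom.mem_ker.1 hg]
      exact congrArg PhiH (Subtype.ext e.symm)
    rw [hk, hk, mul_one, mul_one] at e2
    change aO ^ _ = aO ^ _ at e2
    haveI : Fact (Nat.Prime 3) := ⟨Nat.prime_three⟩
    have ho : orderOf aO = 3 := orderOf_eq_prime (by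
      rw [aO, ← map_pow, show (⟨aC, a_mem_HH⟩ : HH) ^ 3 = 1 from Subtype.ext a_cube, map_one]) aO_ne
    have hij : i = j := Fin.ext (pow_injOn_Iio_orderOf (by simp [ho]) (by simp [ho]) e2)
    subst hij
    exact Prod.ext rfl (Subtype.ext (mul_left_cancel e1))
  have := Nat.card_le_card_of_injective f hf
  rwa [Nat.card_prod, Nat.card_fin, card_K0] at this

theorem card_range_le : Nat.card theta.range ≤ 25920 := by
  have h := theta.ker.card_mul_index
  rw [Subgroup.index_ker] at h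
  have h1 := card_ker_theta_ge
  have h2 := card_HH_le
  have h3 := Nat.mul_le_mul_right (Nat.card theta.range) h1
  omega

end Cfsg.Agent.Spor.CoSuz

end
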