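import Cfsg.Agent.Lib.Spor.Leech.Cert
import Cfsg.Agent.Lib.Spor.CoSuz.Data

/-! The two product conditions with the first chosen vector and its image. -/

set_option autoImplicit false
set_option maxRecDepth 100000

namespace Cfsg.Agent.Spor.CoSuz

open Cfsg.Agent.Spor.Leech

/-- A vector of a chosen orbit as a list. -/
def orbL (j i : ℕ) : List ℤ := (orbT.getD j []).getD i []

/-- The first condition. -/
def condA : List (List ℤ × ℤ) := [(orbL 0 0, 16), (orbL 0 1, 0)]

/-- The second condition. -/
def condB : List (List ℤ × ℤ) := [(orbL 0 0, 16), (orbL 0 1, -8)]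

/-- The data of a product condition. -/
def specA : Spec := ⟨[(0, 2), (1, 2002), (2, 2000), (3, 0), (4, 2000), (5, 2000), (6, 2000), (7, 2000), (8, 2000), (9, 2000), (10, 2000), (11, 4000), (12, 2000), (13, 2002), (14, 4000), (15, 2), (16, 2000), (17, 2), (18, 2002), (19, 2), (20, 2000), (21, 2000), (22, 0), (23, 2002)], [0, 2, 2000, 2002, 4000], 2000, 7984, 0, 8000⟩

/-- The data of a product condition. -/
def specB : Spec := ⟨[(0, 2), (1, 2002), (2, 2000), (3, 0), (4, 2000), (5, 2000), (6, 2000), (7, 2000), (8, 2000), (9, 2000), (10, 2000), (11, 4000), (12, 2000), (13, 2002), (14, 4000), (15, 2), (16, 2000), (17, 2), (18, 2002), (19, 2), (20, 2000), (21, 2000), (22, 0), (23, 2002)], [0, 2, 2000, 2002, 4000], 2000, 7984, 0, 0⟩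

theorem specA_ok : chkSpec (combU condA) (combC condA) specA = true := by decide +kernel

theorem specB_ok : chkSpec (combU condB) (combC condB) specB = true := by decide +kernel

end Cfsg.Agent.Spor.CoSuz
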